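import Cfsg.Agent.Lib.SubfieldMax.Unitary.Key
import Cfsg.Agent.Lib.SubfieldMax.Mem

/-!
Maximality of subfield subgroups in special unitary groups.
-/

set_option autoImplicit false

namespace Cfsg.Agent.Lib.SubfieldMax.Unitary

open Matrix Cfsg.Agent.Lib.Subspaces.Transvection Cfsg.Agent.Lib.Subspaces.FormVec
  Cfsg.Agent.Lib.Subspaces.UnitaryForm Cfsg.Agent.Lib.Subspaces.UnitaryEichler
  Cfsg.Agent.Lib.Subspaces.UnitaryGen
  Cfsg.Agent.Lib.SubfieldMax.Linear Cfsg.Agent.Lib.SubfieldMax.RatLin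
  Cfsg.Agent.Lib.SubfieldMax.Form

variable {F : Type*} [Field F] [Fintype F] {n q : ℕ}

/-- The standard form pulled back along `P`. -/
def pullForm (n : ℕ) (q : ℕ) (P : GL (Fin n) F) (u v : Fin n → F) : F :=
  Cfsg.hermForm n F q ((P : Matrix (Fin n) (Fin n) F) *ᵥ u) ((P : Matrix (Fin n) (Fin n) F) *ᵥ v)

theorem pullForm_unitary (hF : Fintype.card F = q ^ 2) (P : GL (Fin n) F) :
    Cfsg.Geo.IsUnitaryForm (powAut hF) (pullForm n q P) := by
  have h := hermForm_isUnitary (n := n) hF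
  refine ⟨h.ne_refl, h.involutive, fun x y v => ?_, fun c x v => ?_, fun v w => ?_, fun v hv => ?_⟩
  · simp only [pullForm, mulVec_add, h.add_left]
  · simp only [pullForm, mulVec_smul, h.smul_left]
  · exact h.herm _ _
  · have hv' : (P : Matrix (Fin n) (Fin n) F) *ᵥ v ≠ 0 :=
      fun e => hv (gl_mulVec_injective P (by simpa using e))
    obtain ⟨⟨x, hx⟩, ⟨y, hy⟩⟩ := h.nondegenerate _ hv'
    refine ⟨⟨((P⁻¹ : GL (Fin n) F) : Matrix (Fin n) (Fin n) F) *ᵥ x, ?_⟩,
      ⟨((P⁻¹ : GL (Fin n) F) : Matrix (Fin n) (Fin n) F) *ᵥ y, ?_⟩⟩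
    · simpa only [pullForm, gl_mulVec_inv] using hx
    · simpa only [pullForm, gl_mulVec_inv] using hy

theorem entries_tv {F₀ : Subfield F} {v φ : Fin n → F} (h : φ ⬝ᵥ v = 0) (hv : Rat F₀ v)
    (hφ : Rat F₀ φ) (i j : Fin n) : ((tv v φ : GL (Fin n) F) : Matrix (Fin n) (Fin n) F) i j ∈ F₀ := by
  rw [coe_tv h, Matrix.add_apply, vecMulVec_apply]
  refine add_mem ?_ (mul_mem (hv i) (hφ j))
  by_cases hij : i = j
  · subst hij; rw [Matrix.one_apply_eq]; exact one_mem _
  · rw [Matrix.one_apply_ne hij]; exact zero_mem _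

/-- Maximality, given rigidity. -/
theorem maximal (hF : Fintype.card F = q ^ 2) (hn : 10 ≤ n) (F₀ : Subfield F) {r : ℕ}
    (hr : r.Prime) (hcard : Fintype.card F = Nat.card F₀ ^ r) (P : GL (Fin n) F) (ζ : F)
    (hζ : ζ ≠ 0) (hσζ : powAut hF ζ / ζ ∈ F₀)
    (hP : Cfsg.Geo.IsFormRationalStructure (Cfsg.hermForm n F q) F₀ ζ P)
    (kind : (∀ v, Rat F₀ v → pullForm n q P v v = 0) ∨
      (ζ = 1 ∧ ∃ μ ∈ F₀, μ + powAut hF μ ≠ 0))
    (rig : ∀ M : Subgroup (GL (Fin n) F), Setting (powAut hF) F₀ (pullForm n q P) ζ M →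
      (∀ y : GL (Fin n) F, (∀ u v, pullForm n q P ((y : Matrix (Fin n) (Fin n) F) *ᵥ u)
          ((y : Matrix (Fin n) (Fin n) F) *ᵥ v) = pullForm n q P u v) →
        y ∈ Cfsg.Geo.specialLinear (Fin n) F →
        (∀ i j, (y : Matrix (Fin n) (Fin n) F) i j ∈ F₀) → y ∈ M) →
      ¬ Good F₀ (pullForm n q P) ζ M → ∀ g ∈ M, RatUpTo F₀ g) :
    Cfsg.Geo.IsMaximalIn (Cfsg.GU n F q ⊓ Cfsg.Geo.specialLinear (Fin n) F)
      (Cfsg.Geo.subfieldSubgroup F₀ P ⊓ (Cfsg.GU n F q ⊓ Cfsg.Geo.specialLinear (Fin n) F)) := by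
  classical
  set ι := Fin n
  set f := pullForm n q P
  set σ := powAut hF
  set K := Cfsg.GU n F q ⊓ Cfsg.Geo.specialLinear (Fin n) F
  have hf : Cfsg.Geo.IsUnitaryForm σ f := pullForm_unitary hF P
  let c := (MulAut.conj P).toMonoidHom
  have hconj : ∀ (g : GL ι F) (u : ι → F), ((c g : GL ι F) : Matrix ι ι F) *ᵥ
      ((P : Matrix ι ι F) *ᵥ u) = (P : Matrix ι ι F) *ᵥ ((g : Matrix ι ι F) *ᵥ u) := by
    intro g u
    show ((P * g * P⁻¹ : GL ι F) : Matrix ι ι F) *ᵥ _ = _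
    rw [gl_mul_mulVec, gl_mul_mulVec, gl_inv_mulVec]
  have hgu : ∀ g : GL ι F, c g ∈ Cfsg.GU n F q ↔
      ∀ u v, f ((g : Matrix ι ι F) *ᵥ u) ((g : Matrix ι ι F) *ᵥ v) = f u v := by
    intro g
    rw [mem_GU_iff']
    constructor
    · intro h u v
      show Cfsg.hermForm n F q _ _ = _
      rw [← hconj g, ← hconj g]
      exact h _ _
    · intro h u v
      have := h (((P⁻¹ : GL ι F) : Matrix ι ι F) *ᵥ u) (((P⁻¹ : GL ι F) : Matrix ι ι F) *ᵥ v)
      simp only [f, pullForm, ← hconj g, gl_mulVec_inv] at this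
      exact this
  have hsl : ∀ g : GL ι F, c g ∈ Cfsg.Geo.specialLinear ι F ↔ g ∈ Cfsg.Geo.specialLinear ι F := by
    intro g
    have hN : (Cfsg.Geo.specialLinear ι F).Normal := MonoidHom.normal_ker _
    show P * g * P⁻¹ ∈ _ ↔ _
    refine ⟨fun h => ?_, fun h => hN.conj_mem g h P⟩
    simpa [mul_assoc] using hN.conj_mem _ h P⁻¹
  have hsub : ∀ g : GL ι F, c g ∈ Cfsg.Geo.subfieldSubgroup F₀ P ↔ RatUpTo F₀ g := by
    intro g
    rw [Cfsg.Agent.Lib.SubfieldMax.Mem.mem_sub_iff]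
    rw [show P⁻¹ * c g * P = g by show P⁻¹ * (P * g * P⁻¹) * P = g; group]
  have hsig : ∀ x ∈ F₀, σ x ∈ F₀ := fun x hx => by
    rw [powAut_apply]; exact pow_mem hx q
  have hrat : ∀ u v, Rat F₀ u → Rat F₀ v → ζ * f u v ∈ F₀ := fun u v hu hv => hP u v hu hv
  have hl := isLinearLeft_of_unitary hf
  have hvec : ∀ v, Rat F₀ v → ∀ d ∈ F₀, Rat F₀ ((ζ * d) • formVec f v) := fun v hv d hd j => by
    have := mul_mem hd (hrat _ _ (Rat.single j (one_mem _)) hv)
    rw [Pi.smul_apply, smul_eq_mul]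
    convert this using 1
    show ζ * d * f (Pi.single j 1) v = d * (ζ * f (Pi.single j 1) v)
    ring
  -- settings for every group between
  have hS : ∀ M : Subgroup (GL ι F), Cfsg.Geo.subfieldSubgroup F₀ P ⊓ K ≤ M → M ≤ K →
      Setting σ F₀ f ζ (M.comap c) ∧
        ∀ y : GL ι F, (∀ u v, f ((y : Matrix ι ι F) *ᵥ u) ((y : Matrix ι ι F) *ᵥ v) = f u v) →
          y ∈ Cfsg.Geo.specialLinear ι F → (∀ i j, (y : Matrix ι ι F) i j ∈ F₀) → y ∈ M.comap c := by
    intro M hHM hMK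
    have hH : ∀ y : GL ι F, (∀ u v, f ((y : Matrix ι ι F) *ᵥ u) ((y : Matrix ι ι F) *ᵥ v) = f u v) →
        y ∈ Cfsg.Geo.specialLinear ι F → (∀ i j, (y : Matrix ι ι F) i j ∈ F₀) → y ∈ M.comap c :=
      fun y hy hdet he => hHM ⟨(hsub y).2 ⟨1, one_ne_zero, fun i j => by rw [one_mul]; exact he i j⟩,
        (hgu y).2 hy, (hsl y).2 hdet⟩
    refine ⟨⟨hf, hsig, hζ, hσζ, hrat, fun x hx => (hgu x).1 (hMK hx).1,
      fun a b ha hb hab d hd => hH _ (eich_isometry hf hab _) (eich_mem_specialLinear _ _ _) ?_,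
      by simpa using hn, kind⟩, hH⟩
    intro i j
    rw [eich, Units.val_mul, Matrix.mul_apply]
    obtain ⟨d', hd', hd''⟩ : ∃ d' ∈ F₀, -σ (ζ * d) = ζ * d' :=
      ⟨-(σ ζ / ζ * σ d), neg_mem (mul_mem hσζ (hsig d hd)), by
        rw [map_mul, mul_neg, ← mul_assoc, mul_div_cancel₀ _ hζ]⟩
    rw [hd'']
    exact sum_mem fun k _ => mul_mem
      (entries_tv (eich_dot_left hf (hab.symm hf) _) hb (hvec a ha d hd) i k)
      (entries_tv (eich_dot_left hf hab _) ha (hvec b hb d' hd') k j)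
  have hcard' : Nat.card F = Nat.card F₀ ^ r := by rw [Nat.card_eq_fintype_card, hcard]
  obtain ⟨k, hk⟩ : ∃ k : F, k ∉ F₀ := by
    by_contra hall
    push Not at hall
    have : Nat.card F₀ = Nat.card F := Nat.card_congr (Equiv.subtypeUnivEquiv hall)
    rw [← this] at hcard'
    exact hr.ne_one (Nat.pow_right_injective (Finite.one_lt_card (α := F₀)) (hcard'.symm.trans (pow_one _).symm))
  refine isMaximalIn_of inf_le_right ?_ ?_
  · obtain ⟨S, -⟩ := hS K inf_le_right le_rfl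
    obtain ⟨a, ⟨ha, haa, -⟩, ha0⟩ := S.iso_ne (![] : Fin 0 → ι → F) (fun i => i.elim0) (by norm_num)
    obtain ⟨b, ⟨hb, hbb, hbo⟩, hbn⟩ := S.iso_avoid ![a] (fun i => by fin_cases i; exact ha)
      ![a] (fun i => by fin_cases i; exact ha) (by norm_num) (by norm_num)
    have hba : f b a = 0 := hbo 0
    have hb0 : b ≠ 0 := fun e => hbn (e ▸ Submodule.zero_mem _)
    have hp : IsPlane f a b := ⟨haa, hbb, swap_eq_zero hf hba⟩
    refine ⟨c (eich σ f (ζ * k) a b), ⟨(hgu _).2 (eich_isometry hf hp _),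
      (hsl _).2 (eich_mem_specialLinear _ _ _)⟩, fun hmem => ?_⟩
    obtain ⟨d, hd, hent⟩ := (hsub _).1 hmem.1
    have hrv : ∀ v, Rat F₀ v →
        Rat F₀ (d • (((eich σ f (ζ * k) a b : GL ι F) : Matrix ι ι F) *ᵥ v)) := fun v hv i => by
      rw [Pi.smul_apply, smul_eq_mul, mulVec, dotProduct, Finset.mul_sum]
      exact sum_mem fun j _ => by rw [← mul_assoc]; exact mul_mem (hent i j) (hv j)
    have hdF : d ∈ F₀ := by
      obtain ⟨i, hi⟩ := Function.ne_iff.1 ha0
      have := hrv a ha i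
      rw [eich_fix hf hp _ haa hp.orth, Pi.smul_apply, smul_eq_mul] at this
      simpa [mul_assoc, mul_inv_cancel₀ (show a i ≠ 0 from hi)] using mul_mem this (inv_mem (ha i))
    obtain ⟨y, ⟨hy, -, hyo⟩, hya⟩ := S.iso_dual ![b] (fun i => by fin_cases i; exact hb)
      (by norm_num) ha (by
        rw [show Set.range ![b] = {b} by simp [Matrix.range_cons]]
        exact not_mem_span_swap ha0 (by simpa [Matrix.range_cons] using hbn))
    obtain ⟨i, hi⟩ := Function.ne_iff.1 hb0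
    have h1 := hrv y hy i
    rw [eich_mulVec hf hp, show f y b = 0 from hyo 0, mul_zero, zero_smul, sub_zero,
      mul_right_comm, hya, one_mul, Pi.smul_apply, Pi.add_apply, Pi.smul_apply, smul_eq_mul,
      smul_eq_mul] at h1
    have h2 := mul_mem (sub_mem (mul_mem (inv_mem hdF) h1) (hy i)) (inv_mem (hb i))
    rw [← mul_assoc, inv_mul_cancel₀ hd, one_mul, add_sub_cancel_left, mul_assoc,
      mul_inv_cancel₀ (show b i ≠ 0 from hi), mul_one] at h2
    exact hk h2
  · intro M hHM hMK g hgM hgH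
    obtain ⟨S, hH⟩ := hS M hHM hMK
    obtain ⟨y, rfl⟩ : ∃ y, c y = g := (MulAut.conj P).surjective g
    by_cases hG : Good F₀ f ζ (M.comap c)
    · refine su_le hF (by omega) fun v hv => ⟨hv, fun a ha => ?_⟩
      set u := ((P⁻¹ : GL ι F) : Matrix ι ι F) *ᵥ v
      have hPu : (P : Matrix ι ι F) *ᵥ u = v := gl_mulVec_inv P v
      have huu : f u u = 0 := by show Cfsg.hermForm n F q _ _ = 0; rw [hPu, hv]
      have hmem : c (tv u (a • formVec f u)) ∈ M := (S.unitCenter_all hr hcard' hG huu).2 a ha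
      convert hmem using 1
      refine gl_ext fun x => ?_
      rw [utv_mulVec (hermForm_isUnitary hF) hv, ← gl_mulVec_inv P x, hconj,
        utv_mulVec hf huu, mulVec_add, mulVec_smul, hPu]
      congr 2
      rw [← hPu]
      rfl
    · exact absurd ⟨(hsub y).2 (rig _ S hH hG y hgM), hMK hgM⟩ hgH

/-- The subfield of index two is fixed pointwise. -/
theorem index_two (hF : Fintype.card F = q ^ 2) (F₀ : Subfield F)
    (hcard : Fintype.card F = Nat.card F₀ ^ 2) :
    (∀ x ∈ F₀, powAut hF x = x) ∧ ∃ θ : F, ∀ x : F, ∃ a ∈ F₀, ∃ b ∈ F₀, x = a + θ * b := by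
  classical
  have := Fintype.ofFinite F₀
  have hq : Fintype.card F₀ = q := by
    rw [← Nat.card_eq_fintype_card]
    exact (Nat.pow_left_injective two_ne_zero (hF.symm.trans hcard)).symm
  refine ⟨fun x hx => ?_, ?_⟩
  · have := congrArg Subtype.val (FiniteField.pow_card (⟨x, hx⟩ : F₀))
    rw [powAut_apply, ← hq]
    simpa using this
  · obtain ⟨θ, hθ⟩ : ∃ θ : F, θ ∉ F₀ := by
      by_contra hall
      push Not at hall
      have h : Nat.card F₀ = Nat.card F := Nat.card_congr (Equiv.subtypeUnivEquiv hall)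
      rw [Nat.card_eq_fintype_card, Nat.card_eq_fintype_card, hq, hF] at h
      have := Cfsg.Agent.Lib.Unitary.one_lt_q hF
      nlinarith
    refine ⟨θ, ?_⟩
    let m : F₀ × F₀ → F := fun ab => (ab.1 : F) + θ * (ab.2 : F)
    have hinj : Function.Injective m := by
      rintro ⟨a, b⟩ ⟨a', b'⟩ h
      simp only [m] at h
      have hb : b = b' := by
        by_contra hne
        have h0 : ((b : F) - b') ≠ 0 := sub_ne_zero.2 fun e => hne (Subtype.ext e)
        apply hθ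
        have : θ = ((a' : F) - a) / ((b : F) - b') := by
          rw [eq_div_iff h0]; linear_combination h
        rw [this]
        exact div_mem (sub_mem a'.2 a.2) (sub_mem b.2 b'.2)
      subst hb
      exact Prod.ext (Subtype.ext (by simpa using h)) rfl
    have hbij := (Fintype.bijective_iff_injective_and_card m).2
      ⟨hinj, by rw [Fintype.card_prod, hq, hF, pow_two]⟩
    intro x
    obtain ⟨⟨a, b⟩, rfl⟩ := hbij.2 x
    exact ⟨a, a.2, b, b.2, rfl⟩

/-- For odd index the involution is not trivial on the subfield. -/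
theorem index_odd (hF : Fintype.card F = q ^ 2) (F₀ : Subfield F) {r : ℕ} (hro : Odd r)
    (hcard : Fintype.card F = Nat.card F₀ ^ r) : ∃ b ∈ F₀, powAut hF b ≠ b := by
  by_contra hall
  push Not at hall
  let L : Submodule F₀ F :=
    { carrier := {x | x ^ q = x}
      zero_mem' := zero_pow (Cfsg.Agent.Lib.Unitary.q_ne_zero hF)
      add_mem' := fun {a b} ha hb => by
        show (a + b) ^ q = a + b
        rw [← powAut_apply hF, map_add, powAut_apply, powAut_apply, show a ^ q = a from ha,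
          show b ^ q = b from hb]
      smul_mem' := fun l x hx => by
        show ((l : F) * x) ^ q = (l : F) * x
        rw [mul_pow, show x ^ q = x from hx, ← powAut_apply hF, hall _ l.2] }
  have h1 := Module.natCard_eq_pow_finrank (K := F₀) (V := L)
  have h2 : Nat.card L = q := Cfsg.Agent.Lib.Unitary.card_fixed hF
  rw [h2] at h1
  rw [hF, h1, ← pow_mul] at hcard
  have := Nat.pow_right_injective (Finite.one_lt_card (α := F₀)) hcard
  obtain ⟨j, hj⟩ := hro
  omega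

end Cfsg.Agent.Lib.SubfieldMax.Unitary
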