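import Cfsg.Agent.Lib.Subspaces.UnitaryEichler

/-!
The isometries `x ↦ x + t f(x,a) b - σ t f(x,b) a` of a unitary form, with arbitrary parameter,
and the elements attached to an isotropic vector and a vector orthogonal to it.
-/

set_option autoImplicit false

namespace Cfsg.Agent.Lib.SubfieldMax.Unitary

open Matrix Cfsg.Agent.Lib.Subspaces.Transvection Cfsg.Agent.Lib.Subspaces.FormVec
  Cfsg.Agent.Lib.Subspaces.UnitaryForm Cfsg.Agent.Lib.Subspaces.UnitaryEichler
  Cfsg.Agent.Lib.Subspaces.UnitaryGen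

variable {ι : Type} [Fintype ι] [DecidableEq ι] {F : Type*} [Field F]
  {σ : F ≃+* F} {f : (ι → F) → (ι → F) → F}

/-- `x ↦ x + t f(x,a) b - σ t f(x,b) a`. -/
noncomputable def eich (σ : F ≃+* F) (f : (ι → F) → (ι → F) → F) (t : F) (a b : ι → F) : GL ι F :=
  tv b (t • formVec f a) * tv a ((-σ t) • formVec f b)

theorem eich_dot_left (hf : Cfsg.Geo.IsUnitaryForm σ f) {a b : ι → F} (h : IsPlane f a b) (t : F) :
    (t • formVec f b) ⬝ᵥ a = 0 := by
  rw [smul_dotProduct, formVec_dot (isLinearLeft_of_unitary hf), h.orth, smul_zero]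

theorem eich_mulVec (hf : Cfsg.Geo.IsUnitaryForm σ f) {a b : ι → F} (h : IsPlane f a b) (t : F)
    (x : ι → F) :
    (eich σ f t a b : Matrix ι ι F) *ᵥ x = x + (t * f x a) • b - (σ t * f x b) • a := by
  have hl := isLinearLeft_of_unitary hf
  rw [eich, gl_mul_mulVec, tv_mulVec (eich_dot_left hf h _), tv_mulVec (eich_dot_left hf (h.symm hf) _)]
  simp only [smul_dotProduct, formVec_dot hl, smul_eq_mul, hf.add_left, hf.smul_left, h.left,
    mul_zero, add_zero]
  module

theorem eich_mem_specialLinear (t : F) (a b : ι → F) : eich σ f t a b ∈ Cfsg.Geo.specialLinear ι F :=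
  mul_mem (tv_mem_specialLinear _ _) (tv_mem_specialLinear _ _)

theorem eich_isometry (hf : Cfsg.Geo.IsUnitaryForm σ f) {a b : ι → F} (h : IsPlane f a b) (t : F)
    (x y : ι → F) :
    f ((eich σ f t a b : Matrix ι ι F) *ᵥ x) ((eich σ f t a b : Matrix ι ι F) *ᵥ y) = f x y := by
  have hl := isLinearLeft_of_unitary hf
  rw [eich_mulVec hf h, eich_mulVec hf h]
  simp only [form_sub_left hl, sub_right hf, hf.add_left, add_right hf, hf.smul_left, smul_right hf,
    h.left, h.right, h.orth, h.orth' hf, map_mul, hf.involutive, ← hf.herm]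
  ring

theorem eich_conj (hf : Cfsg.Geo.IsUnitaryForm σ f) {g : GL ι F}
    (hg : ∀ x y, f ((g : Matrix ι ι F) *ᵥ x) ((g : Matrix ι ι F) *ᵥ y) = f x y) (t : F)
    {a b : ι → F} (h : IsPlane f a b) :
    g * eich σ f t a b * g⁻¹ =
      eich σ f t ((g : Matrix ι ι F) *ᵥ a) ((g : Matrix ι ι F) *ᵥ b) := by
  refine gl_ext fun x => ?_
  rw [gl_mul_mulVec, gl_mul_mulVec, eich_mulVec hf h, eich_mulVec hf (h.map hg)]
  have e1 := hg (((g⁻¹ : GL ι F) : Matrix ι ι F) *ᵥ x) a
  have e2 := hg (((g⁻¹ : GL ι F) : Matrix ι ι F) *ᵥ x) b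
  rw [gl_mulVec_inv] at e1 e2
  rw [mulVec_sub, mulVec_add, mulVec_smul, mulVec_smul, gl_mulVec_inv, e1, e2]

theorem eich_swap (hf : Cfsg.Geo.IsUnitaryForm σ f) {a b : ι → F} (h : IsPlane f a b) (t : F) :
    eich σ f t a b = eich σ f (-σ t) b a := by
  refine gl_ext fun x => ?_
  rw [eich_mulVec hf h, eich_mulVec hf (h.symm hf), map_neg, hf.involutive]
  module

theorem eich_smul_right (hf : Cfsg.Geo.IsUnitaryForm σ f) {a b : ι → F} (h : IsPlane f a b)
    (t l : F) : eich σ f t a (l • b) = eich σ f (t * l) a b := by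
  have h' : IsPlane f a (l • b) := ⟨h.left, by rw [hf.smul_left, smul_right hf, h.right]; simp,
    by rw [smul_right hf, h.orth, mul_zero]⟩
  refine gl_ext fun x => ?_
  rw [eich_mulVec hf h', eich_mulVec hf h, smul_right hf, map_mul]
  module

theorem eich_mul_right (hf : Cfsg.Geo.IsUnitaryForm σ f) {a b d : ι → F} (h : IsPlane f a b)
    (h' : IsPlane f a d) (hbd : f b d = 0) (t : F) :
    eich σ f t a b * eich σ f t a d = eich σ f t a (b + d) := by
  have hl := isLinearLeft_of_unitary hf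
  have hs : IsPlane f a (b + d) := ⟨h.left,
    by rw [hf.add_left, add_right hf, add_right hf, h.right, h'.right, hbd, swap_eq_zero hf hbd]; ring,
    by rw [add_right hf, h.orth, h'.orth, add_zero]⟩
  refine gl_ext fun x => ?_
  rw [gl_mul_mulVec, eich_mulVec hf h', eich_mulVec hf h, eich_mulVec hf hs]
  simp only [form_sub_left hl, hf.add_left, add_right hf, hf.smul_left, h.orth, h'.left, h'.orth' hf,
    swap_eq_zero hf hbd, mul_zero, add_zero, sub_zero]
  module

theorem eich_add (hf : Cfsg.Geo.IsUnitaryForm σ f) {a b : ι → F} (h : IsPlane f a b) (t s : F) :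
    eich σ f t a b * eich σ f s a b = eich σ f (t + s) a b := by
  have hl := isLinearLeft_of_unitary hf
  refine gl_ext fun x => ?_
  rw [gl_mul_mulVec, eich_mulVec hf h, eich_mulVec hf h, eich_mulVec hf h]
  simp only [form_sub_left hl, hf.add_left, hf.smul_left, h.left, h.right, h.orth, h.orth' hf,
    mul_zero, add_zero, sub_zero, map_add]
  module

theorem eich_zero (hf : Cfsg.Geo.IsUnitaryForm σ f) {a b : ι → F} (h : IsPlane f a b) :
    eich σ f 0 a b = 1 := by
  refine gl_ext fun x => ?_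
  rw [eich_mulVec hf h, Units.val_one, one_mulVec]
  simp

/-- `g` acts as the element attached to `x ⊥ w` and the scalar `c`. -/
def IsS (f : (ι → F) → (ι → F) → F) (w x : ι → F) (c : F) (g : GL ι F) : Prop :=
  ∀ u, (g : Matrix ι ι F) *ᵥ u = u + f u w • x - f u x • w + (c * f u w) • w

theorem IsS.mul (hf : Cfsg.Geo.IsUnitaryForm σ f) {x x' w : ι → F} {c c' : F} {g g' : GL ι F}
    (hg : IsS f w x c g) (hg' : IsS f w x' c' g') (hww : f w w = 0) (hxw : f x w = 0)
    (hxw' : f x' w = 0) : IsS f w (x + x') (c + c' - f x' x) (g * g') := by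
  have hl := isLinearLeft_of_unitary hf
  intro u
  rw [gl_mul_mulVec, hg' u, hg]
  simp only [form_sub_left hl, hf.add_left, add_right hf, hf.smul_left, hww, hxw',
    swap_eq_zero hf hxw, mul_zero, add_zero, sub_zero]
  module

theorem IsS.inv (hf : Cfsg.Geo.IsUnitaryForm σ f) {x w : ι → F} {c : F} {g : GL ι F}
    (hg : IsS f w x c g) (hww : f w w = 0) (hxw : f x w = 0) :
    IsS f w (-x) (-c - f x x) g⁻¹ := by
  have hl := isLinearLeft_of_unitary hf
  intro u
  apply gl_mulVec_injective g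
  show (g : Matrix ι ι F) *ᵥ _ = (g : Matrix ι ι F) *ᵥ _
  have hneg : ∀ y, f y (-x) = - f y x := fun y => by
    rw [← neg_one_smul F x, smul_right hf, map_neg, map_one, neg_one_mul]
  have hnegl : ∀ y, f (-x) y = - f x y := fun y => by
    rw [← neg_one_smul F x, hf.smul_left, neg_one_mul]
  rw [gl_mulVec_inv, hg]
  simp only [form_sub_left hl, hf.add_left, hf.smul_left, hneg, hnegl, hww, hxw,
    swap_eq_zero hf hxw, neg_zero, mul_zero, add_zero, sub_zero]
  module

theorem IsS.conj (hf : Cfsg.Geo.IsUnitaryForm σ f) {x w : ι → F} {c : F} {g h : GL ι F}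
    (hg : IsS f w x c g)
    (hh : ∀ u v, f ((h : Matrix ι ι F) *ᵥ u) ((h : Matrix ι ι F) *ᵥ v) = f u v)
    (hw : (h : Matrix ι ι F) *ᵥ w = w) : IsS f w ((h : Matrix ι ι F) *ᵥ x) c (h * g * h⁻¹) := by
  intro u
  have e1 := hh (((h⁻¹ : GL ι F) : Matrix ι ι F) *ᵥ u) w
  have e2 := hh (((h⁻¹ : GL ι F) : Matrix ι ι F) *ᵥ u) x
  rw [gl_mulVec_inv] at e1 e2
  rw [hw] at e1
  rw [gl_mul_mulVec, gl_mul_mulVec, hg, mulVec_add, mulVec_sub, mulVec_add, mulVec_smul, mulVec_smul,
    mulVec_smul, hw, gl_mulVec_inv, ← e1, ← e2]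

/-- The commutator with an isometry fixing `w`. -/
theorem IsS.diff (hf : Cfsg.Geo.IsUnitaryForm σ f) {x w : ι → F} {c : F} {g h : GL ι F}
    (hg : IsS f w x c g)
    (hh : ∀ u v, f ((h : Matrix ι ι F) *ᵥ u) ((h : Matrix ι ι F) *ᵥ v) = f u v)
    (hw : (h : Matrix ι ι F) *ᵥ w = w) (hww : f w w = 0) (hxw : f x w = 0) :
    IsS f w ((h : Matrix ι ι F) *ᵥ x - x) (f ((h : Matrix ι ι F) *ᵥ x - x) x)
      (g⁻¹ * (h * g * h⁻¹)) := by
  have hl := isLinearLeft_of_unitary hf
  have h1 : f ((h : Matrix ι ι F) *ᵥ x) w = 0 := by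
    rw [← hw, hh, hxw]
  have h2 : f (-x) w = 0 := by rw [← neg_one_smul F x, hf.smul_left, hxw, mul_zero]
  have h3 := IsS.mul hf (IsS.inv hf hg hww hxw) (IsS.conj hf hg hh hw) hww h2 h1
  rw [neg_add_eq_sub] at h3
  convert h3 using 1
  rw [form_sub_left hl, ← neg_one_smul F x, smul_right hf, map_neg, map_one]
  simp only [neg_smul, one_smul, neg_mul, one_mul]
  ring

theorem isS_eich (hf : Cfsg.Geo.IsUnitaryForm σ f) {a w : ι → F} (h : IsPlane f a w) (t : F) :
    IsS f w ((-σ t) • a) 0 (eich σ f t a w) := by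
  intro u
  rw [eich_mulVec hf h, smul_right hf, map_neg, hf.involutive]
  module

theorem eq_eich_of_isS (hf : Cfsg.Geo.IsUnitaryForm σ f) {a w : ι → F} (h : IsPlane f a w) {m : F}
    {g : GL ι F} (hg : IsS f w (m • a) 0 g) : g = eich σ f (-σ m) a w := by
  refine gl_ext fun u => ?_
  have := isS_eich hf h (-σ m)
  rw [map_neg, hf.involutive, neg_neg] at this
  rw [hg u, this u]

theorem eich_fix (hf : Cfsg.Geo.IsUnitaryForm σ f) {a b : ι → F} (h : IsPlane f a b) (t : F)
    {x : ι → F} (ha : f x a = 0) (hb : f x b = 0) : (eich σ f t a b : Matrix ι ι F) *ᵥ x = x := by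
  rw [eich_mulVec hf h, ha, hb]
  simp

end Cfsg.Agent.Lib.SubfieldMax.Unitary
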