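import Cfsg.Agent.Lib.SubfieldMax.Unitary.Spread

/-!
A group with all isometries attached to rational planes has every isotropic vector as centre of a
transvection group.
-/

set_option autoImplicit false

namespace Cfsg.Agent.Lib.SubfieldMax.Unitary

open Matrix Cfsg.Agent.Lib.Subspaces.Transvection Cfsg.Agent.Lib.Subspaces.FormVec
  Cfsg.Agent.Lib.Subspaces.UnitaryForm Cfsg.Agent.Lib.Subspaces.UnitaryEichler
  Cfsg.Agent.Lib.Subspaces.UnitaryGen
  Cfsg.Agent.Lib.SubfieldMax.Linear Cfsg.Agent.Lib.SubfieldMax.RatLin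

variable {ι : Type} [Fintype ι] [DecidableEq ι] {F : Type*} [Field F]

namespace Setting

variable {σ : F ≃+* F} {F₀ : Subfield F} {f : (ι → F) → (ι → F) → F} {ζ : F}
  {M : Subgroup (GL ι F)} (S : Setting σ F₀ f ζ M)
include S

theorem unitCenter_rat [Finite F] {r : ℕ} (hr : r.Prime) (hcard : Nat.card F = Nat.card F₀ ^ r)
    (hG : Good F₀ f ζ M) {a : ι → F} (ha : Rat F₀ a) (haa : f a a = 0) (ha0 : a ≠ 0) :
    UnitCenter σ f M a := by
  have hf := S.herm
  obtain ⟨b, ⟨hb, hbb, hbo⟩, hbn⟩ := S.iso_avoid ![a] (fun i => by fin_cases i; exact ha)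
    ![a] (fun i => by fin_cases i; exact ha) (by norm_num) (by norm_num)
  obtain ⟨c, ⟨hc, hcc, hco⟩, hbc⟩ := S.iso_dual' ![a] (fun i => by fin_cases i; exact ha)
    (by norm_num) hb hbn
  have hab : f a b = 0 := swap_eq_zero hf (hbo 0)
  have hac : f a c = 0 := swap_eq_zero hf (hco 0)
  have hb1 : b ∉ Submodule.span F {a} := by simpa [Matrix.range_cons] using hbn
  have hc1 : c ∉ Submodule.span F {a} := fun hm => by
    obtain ⟨l, rfl⟩ := Submodule.mem_span_singleton.1 hm
    rw [smul_right hf, show f b a = 0 from hbo 0, mul_zero, mul_zero] at hbc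
    exact zero_ne_one hbc
  have hP : Pln F₀ f a b := ⟨ha, hb, ⟨haa, hbb, hab⟩, not_mem_span_swap ha0 hb1, hb1⟩
  have hQ : Pln F₀ f a c := ⟨ha, hc, ⟨haa, hcc, hac⟩, not_mem_span_swap ha0 hc1, hc1⟩
  refine ⟨haa, fun e he => ?_⟩
  obtain ⟨l, hl⟩ := exists_trace hf (r := 1) (map_one σ)
  set z := e * l
  have hfcb : f c b ≠ 0 := fun h => by
    rw [swap_eq_zero hf h, mul_zero] at hbc
    exact zero_ne_one hbc
  set t := σ (-z / f c b)
  have hh := S.all_par hr hcard hG hP t
  have hca : f c a = 0 := swap_eq_zero hf hac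
  have h1 : (eich σ f t a b : Matrix ι ι F) *ᵥ a = a := eich_fix hf hP.plane _ haa hab
  have h2 : (eich σ f t a b : Matrix ι ι F) *ᵥ c = c + z • a := by
    rw [eich_mulVec hf hP.plane, hca, mul_zero, zero_smul, add_zero, hf.involutive,
      div_mul_cancel₀ _ hfcb, neg_smul, sub_neg_eq_add]
  have h3 := M.mul_mem (M.mul_mem hh (S.all_par hr hcard hG hQ 1)) (M.inv_mem hh)
  rw [eich_conj hf (S.iso _ hh) 1 hQ.plane, h1, h2] at h3
  have h4 := M.mul_mem (M.inv_mem (S.all_par hr hcard hG hQ 1)) h3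
  convert h4 using 1
  rw [eq_inv_mul_iff_mul_eq]
  have hp : IsPlane f a (c + z • a) := ⟨haa,
    by rw [expand_add_smul hf, hcc, hac, haa]; simp,
    by rw [add_right hf, smul_right hf, hac, haa]; simp⟩
  refine gl_ext fun x => ?_
  rw [gl_mul_mulVec, utv_mulVec hf haa, eich_mulVec hf hQ.plane, eich_mulVec hf hp]
  have hz : z - σ z = e := by
    simp only [z, map_mul]
    linear_combination e * hl - σ l * he
  rw [← hz]
  simp only [hf.add_left, add_right hf, hf.smul_left, smul_right hf, haa, hac, map_one, one_mul]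
  module

/-- Every isotropic vector is a centre. -/
theorem unitCenter_all [Finite F] {r : ℕ} (hr : r.Prime) (hcard : Nat.card F = Nat.card F₀ ^ r)
    (hG : Good F₀ f ζ M) {v : ι → F} (hv : f v v = 0) : UnitCenter σ f M v := by
  have hf := S.herm
  rcases eq_or_ne v 0 with rfl | hv0
  · exact ⟨hv, fun a _ => by rw [tv_zero_left]; exact M.one_mem⟩
  obtain ⟨a, ⟨ha, haa, -⟩, hva⟩ : ∃ a ∈ isoPerp F₀ f (![] : Fin 0 → ι → F), f v a ≠ 0 := by
    by_contra hall
    push Not at hall
    obtain ⟨-, x, hx⟩ := hf.nondegenerate v hv0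
    apply hx
    have hmem := S.mem_span_isoPerp (![] : Fin 0 → ι → F) (fun i => i.elim0) (by norm_num)
      (w := x) (fun i => i.elim0)
    clear hx
    induction hmem using Submodule.span_induction with
    | mem y hy => exact hall y hy
    | zero => exact zero_right hf v
    | add y z _ _ h1 h2 => rw [add_right hf, h1, h2, add_zero]
    | smul l y _ h => rw [smul_right hf, h, mul_zero]
  have ha0 : a ≠ 0 := fun h => hva (by rw [h, zero_right hf])
  obtain ⟨b, ⟨hb, hbb, -⟩, hba⟩ := S.iso_dual (![] : Fin 0 → ι → F) (fun i => i.elim0) (by norm_num)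
    ha (by simpa using ha0)
  have hba0 : f b a ≠ 0 := fun h => by rw [h, mul_zero] at hba; exact zero_ne_one hba
  have hab0 : f a b ≠ 0 := fun h => hba0 (swap_eq_zero hf h)
  have hb0 : b ≠ 0 := fun h => hba0 (by rw [h, form_zero_left S.hl])
  set β := f v a / f b a
  set α := f v b / f a b
  set w := v - α • a - β • b
  have hwa : f w a = 0 := by
    simp only [w, form_sub_left S.hl, hf.smul_left, haa, β]
    field_simp; ring
  have hwb : f w b = 0 := by
    simp only [w, form_sub_left S.hl, hf.smul_left, hbb, α]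
    field_simp; ring
  have hmem := S.mem_span_isoPerp ![a, b] (fun i => by fin_cases i; exacts [ha, hb]) (by norm_num)
    (w := w) (fun i => by fin_cases i; exacts [hwa, hwb])
  have key : ∀ u ∈ Submodule.span F (isoPerp F₀ f ![a, b]), f u a = 0 ∧ ∀ (y : ι → F) (l : F),
      f y a = f v a → ∃ h ∈ M, ∃ μ : F, (h : Matrix ι ι F) *ᵥ y = y + l • u + μ • a := by
    intro u hu
    induction hu using Submodule.span_induction with
    | mem u hu =>
      obtain ⟨hu, huu, huo⟩ := hu
      have hua : f u a = 0 := huo 0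
      refine ⟨hua, fun y l hy => ?_⟩
      rcases eq_or_ne u 0 with rfl | hu0
      · exact ⟨1, M.one_mem, 0, by simp⟩
      have hn : u ∉ Submodule.span F {a} := fun hm => by
        obtain ⟨c, rfl⟩ := Submodule.mem_span_singleton.1 hm
        have := huo 1
        rw [hf.smul_left] at this
        rcases mul_eq_zero.1 this with hc | hc
        · exact hu0 (by rw [hc, zero_smul])
        · exact hab0 hc
      have hP : Pln F₀ f a u :=
        ⟨ha, hu, ⟨haa, huu, swap_eq_zero hf hua⟩, not_mem_span_swap ha0 hn, hn⟩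
      refine ⟨_, S.all_par hr hcard hG hP (l / f v a), -(σ (l / f v a) * f y u), ?_⟩
      rw [eich_mulVec hf hP.plane, hy, div_mul_cancel₀ _ hva]
      module
    | zero => exact ⟨form_zero_left S.hl a, fun y l _ => ⟨1, M.one_mem, 0, by simp⟩⟩
    | add u₁ u₂ _ _ h1 h2 =>
      refine ⟨by rw [hf.add_left, h1.1, h2.1, add_zero], fun y l hy => ?_⟩
      obtain ⟨g1, hg1, μ1, e1⟩ := h1.2 y l hy
      obtain ⟨g2, hg2, μ2, e2⟩ := h2.2 ((g1 : Matrix ι ι F) *ᵥ y) l (by
        rw [e1, hf.add_left, hf.add_left, hf.smul_left, hf.smul_left, h1.1, haa, hy]; ring)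
      refine ⟨g2 * g1, M.mul_mem hg2 hg1, μ1 + μ2, ?_⟩
      rw [gl_mul_mulVec, e2, e1]
      module
    | smul c u _ h =>
      refine ⟨by rw [hf.smul_left, h.1, mul_zero], fun y l hy => ?_⟩
      obtain ⟨g, hg, μ, e⟩ := h.2 y (l * c) hy
      exact ⟨g, hg, μ, by rw [e, smul_smul]⟩
  obtain ⟨h, hh, μ, he⟩ := (key w hmem).2 v (-1) rfl
  have he' : (h : Matrix ι ι F) *ᵥ v = (α + μ) • a + β • b := by
    rw [he]; simp only [w]; module
  set α' := α + μ
  have hiso : f ((h : Matrix ι ι F) *ᵥ v) ((h : Matrix ι ι F) *ᵥ v) = 0 := by rw [S.iso h hh, hv]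
  rw [he'] at hiso
  simp only [hf.add_left, add_right hf, hf.smul_left, smul_right hf, haa, hbb] at hiso
  have hβ : β ≠ 0 := div_ne_zero hva hba0
  set e := -α' / (β * f b a)
  have hskew : e + σ e = 0 := by
    have hσβ : σ β ≠ 0 := by simpa using hβ
    simp only [e, map_div₀, map_neg, map_mul, ← hf.herm a b]
    field_simp
    linear_combination -hiso
  have hca := S.unitCenter_rat hr hcard hG ha haa ha0
  have ht := hca.2 e hskew
  have hfin : ((tv a (e • formVec f a) * h : GL ι F) : Matrix ι ι F) *ᵥ v = β • b := by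
    rw [gl_mul_mulVec, he', utv_mulVec hf haa, hf.add_left, hf.smul_left, hf.smul_left, haa, mul_zero,
      zero_add, show e * (β * f b a) = -α' from div_mul_cancel₀ _ (mul_ne_zero hβ hba0)]
    module
  have hg := M.inv_mem (M.mul_mem ht hh)
  have := unitCenter_conj hf (unitCenter_smul hf (S.unitCenter_rat hr hcard hG hb hbb hb0) β) hg
    (S.iso _ hg)
  rwa [← hfin, gl_inv_mulVec] at this

end Setting

end Cfsg.Agent.Lib.SubfieldMax.Unitary
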