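import Cfsg.Agent.Lib.SubfieldMax.Unitary.Full
import Cfsg.Agent.Lib.SubfieldMax.Form

/-!
Without an irrational parameter, images of rational isotropic vectors orthogonal to rational
isotropic vectors are rational up to scalars.
-/

set_option autoImplicit false

namespace Cfsg.Agent.Lib.SubfieldMax.Unitary

open Matrix Cfsg.Agent.Lib.Subspaces.Transvection Cfsg.Agent.Lib.Subspaces.FormVec
  Cfsg.Agent.Lib.Subspaces.UnitaryForm Cfsg.Agent.Lib.Subspaces.UnitaryEichler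
  Cfsg.Agent.Lib.Subspaces.UnitaryGen
  Cfsg.Agent.Lib.SubfieldMax.Linear Cfsg.Agent.Lib.SubfieldMax.RatLin
  Cfsg.Agent.Lib.SubfieldMax.Form

variable {ι : Type} [Fintype ι] [DecidableEq ι] {F : Type*} [Field F]

/-- Every image of a rational isotropic vector orthogonal to a rational isotropic vector lies in
a rational line modulo the latter. -/
def KeyProp (F₀ : Subfield F) (f : (ι → F) → (ι → F) → F) (M : Subgroup (GL ι F)) : Prop :=
  ∀ g ∈ M, ∀ x w : ι → F, Rat F₀ x → f x x = 0 → x ≠ 0 → Rat F₀ w → f w w = 0 → w ≠ 0 →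
    f ((g : Matrix ι ι F) *ᵥ x) w = 0 →
    ∃ (l μ : F) (r : ι → F), l ≠ 0 ∧ Rat F₀ r ∧ l • ((g : Matrix ι ι F) *ᵥ x) = μ • w + r

namespace Setting

variable {σ : F ≃+* F} {F₀ : Subfield F} {f : (ι → F) → (ι → F) → F} {ζ : F}
  {M : Subgroup (GL ι F)} (S : Setting σ F₀ f ζ M)
include S

/-- Elements fixing `w` move rational vectors orthogonal to `w` by rational vectors modulo `w`. -/
theorem diff_mem [Finite F] (hG : ¬ Good F₀ f ζ M) {w : ι → F} (hw : Rat F₀ w) (hww : f w w = 0)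
    (hw0 : w ≠ 0) {k : GL ι F} (hk : k ∈ M) (hkw : (k : Matrix ι ι F) *ᵥ w = w) {u : ι → F}
    (hu : Rat F₀ u) (huw : f u w = 0) :
    ∃ (r : ι → F) (μ : F), Rat F₀ r ∧ (k : Matrix ι ι F) *ᵥ u - u = r + μ • w := by
  have hf := S.herm
  refine S.iso_induction ![w] (fun i => by fin_cases i; exact hw) (by norm_num)
    (P := fun u => ∃ (r : ι → F) (μ : F), Rat F₀ r ∧ (k : Matrix ι ι F) *ᵥ u - u = r + μ • w)
    ?_ ?_ ?_ hu (fun i => by fin_cases i; exact huw)
  · rintro u ⟨hu, huu, huo⟩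
    have hp : IsPlane f u w := ⟨huu, hww, huo 0⟩
    have hS := isS_eich hf hp (ζ * -(σ ζ / ζ))
    rw [mul_neg, mul_div_cancel₀ _ S.zeta, map_neg, neg_neg, hf.involutive] at hS
    have hmem := S.hE u w hu hw hp _ (neg_mem S.sigz)
    rw [mul_neg, mul_div_cancel₀ _ S.zeta] at hmem
    have hxw : f (ζ • u) w = 0 := by rw [hf.smul_left, show f u w = 0 from huo 0, mul_zero]
    have h1 := IsS.diff hf hS (S.iso k hk) hkw hww hxw
    by_contra hn
    push Not at hn
    refine hG ⟨w, _, _, _, hw, hww, hw0, ?_, M.mul_mem (M.inv_mem hmem)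
      (M.mul_mem (M.mul_mem hk hmem) (M.inv_mem hk)), h1, ?_⟩
    · have := S.iso k hk (ζ • u) w
      rw [hkw, hxw] at this
      rw [form_sub_left S.hl, this, hxw, sub_zero]
    · rintro ⟨r, μ, hr, e⟩
      refine hn r (μ / ζ) hr ?_
      rw [mulVec_smul, ← smul_sub] at e
      have := congrArg (fun z => ζ⁻¹ • z) e
      simp only [smul_add, inv_smul_smul₀ S.zeta, smul_smul] at this
      rw [this, div_eq_mul_inv, mul_comm μ]
  · rintro a b ⟨r1, μ1, hr1, e1⟩ ⟨r2, μ2, hr2, e2⟩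
    refine ⟨r1 + r2, μ1 + μ2, rat_add hr1 hr2, ?_⟩
    rw [mulVec_add, add_sub_add_comm, e1, e2]
    module
  · rintro l hl a ⟨r, μ, hr, e⟩
    refine ⟨l • r, l * μ, hr.smul hl, ?_⟩
    rw [mulVec_smul, ← smul_sub, e]
    module

/-- Vectors orthogonal to all rational vectors orthogonal to the given ones lie in their span. -/
theorem perp_perp [Finite F] {k : ℕ} (u : Fin k → ι → F) (hu : ∀ i, Rat F₀ (u i)) {a : ι → F}
    (h : ∀ y, Rat F₀ y → (∀ i, f y (u i) = 0) → f y a = 0) : a ∈ Submodule.span F (Set.range u) := by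
  by_contra hn
  obtain ⟨t, ht, hta⟩ := dual_right S.herm hn
  have hmem := S.mem_span_rat u hu (w := t) (fun i => ht _ (Submodule.subset_span ⟨i, rfl⟩))
  have : f t a = 0 := by
    clear hta ht
    induction hmem using Submodule.span_induction with
    | mem y hy => exact h y hy.1 hy.2
    | zero => exact form_zero_left S.hl a
    | add y z _ _ h1 h2 => rw [S.herm.add_left, h1, h2, add_zero]
    | smul l y _ hy => rw [S.herm.smul_left, hy, mul_zero]
  exact one_ne_zero (hta.symm.trans this)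

/-- Groups containing the rational transvections. -/
theorem key_of_tv [Finite F] (hG : ¬ Good F₀ f ζ M) {e : F} (he0 : e ≠ 0)
    (hT : ∀ v, Rat F₀ v → f v v = 0 → tv v (e • formVec f v) ∈ M) : KeyProp F₀ f M := by
  have hf := S.herm
  intro g hg x w hx hxx _ hw hww hw0 haw
  set a := (g : Matrix ι ι F) *ᵥ x
  have haa : f a a = 0 := by rw [S.iso g hg, hxx]
  have hk : tv a (e • formVec f a) ∈ M := by
    rw [← conj_utv hf (S.iso g hg) hxx e]
    exact M.mul_mem (M.mul_mem hg (hT x hx hxx)) (M.inv_mem hg)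
  have hkw : (tv a (e • formVec f a) : Matrix ι ι F) *ᵥ w = w := by
    rw [utv_mulVec hf haa, swap_eq_zero hf haw, mul_zero, zero_smul, add_zero]
  by_cases hex : ∀ y, Rat F₀ y → f y w = 0 → f y a = 0
  · have := S.perp_perp ![w] (fun i => by fin_cases i; exact hw) (a := a)
      (fun y hy ho => hex y hy (ho 0))
    rw [show Set.range ![w] = {w} by simp [Matrix.range_cons]] at this
    obtain ⟨μ, hμ⟩ := Submodule.mem_span_singleton.1 this
    exact ⟨1, μ, 0, one_ne_zero, rat_zero, by rw [one_smul, add_zero, hμ]⟩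
  · push Not at hex
    obtain ⟨u, hu, huw, hua⟩ := hex
    obtain ⟨r, μ, hr, e1⟩ := S.diff_mem hG hw hww hw0 hk hkw hu huw
    rw [utv_mulVec hf haa, add_sub_cancel_left] at e1
    exact ⟨e * f u a, μ, r, mul_ne_zero he0 hua, hr, by rw [e1, add_comm]⟩

omit S in
theorem split {θ : F} (hθ : ∀ x : F, ∃ a ∈ F₀, ∃ b ∈ F₀, x = a + θ * b) (v : ι → F) :
    ∃ v1 v2 : ι → F, Rat F₀ v1 ∧ Rat F₀ v2 ∧ v = v1 + θ • v2 := by
  choose a ha b hb hab using fun i => hθ (v i)
  exact ⟨a, b, ha, hb, funext hab⟩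

theorem split_orth {θ : F} {v1 v2 y : ι → F} (h1 : f y v1 = 0) (h2 : f y v2 = 0) :
    f y (v1 + θ • v2) = 0 := by
  rw [add_right S.herm, smul_right S.herm, h1, h2, mul_zero, add_zero]

/-- Subfields of index two. -/
theorem key_of_index_two [Finite F] (hG : ¬ Good F₀ f ζ M) {θ : F}
    (hθ : ∀ x : F, ∃ a ∈ F₀, ∃ b ∈ F₀, x = a + θ * b) : KeyProp F₀ f M := by
  have hf := S.herm
  intro g hg x w hx hxx hx0 hw hww hw0 haw
  set a := (g : Matrix ι ι F) *ᵥ x
  have haa : f a a = 0 := by rw [S.iso g hg, hxx]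
  obtain ⟨a1, a2, ha1, ha2, hae⟩ := split hθ a
  obtain ⟨r1, r2, hr1, hr2, hre⟩ := split hθ (((g⁻¹ : GL ι F) : Matrix ι ι F) *ᵥ w)
  have hcard := S.card
  set T : Submodule F (ι → F) := Submodule.span F (Set.range ![w, a1, a2])
  have hT : Module.finrank F T ≤ 3 := finrank_span_range_le _
  let T' : Submodule F (ι → F) := T.map (Matrix.mulVecLin ((g⁻¹ : GL ι F) : Matrix ι ι F))
  have hT' : Module.finrank F T' ≤ 3 := (Submodule.finrank_map_le _ _).trans hT
  obtain ⟨y, ⟨hy, hyy, hyo⟩, hyT⟩ : ∃ y ∈ isoPerp F₀ f ![x, r1, r2],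
      (g : Matrix ι ι F) *ᵥ y ∉ T := by
    by_contra hall
    push Not at hall
    obtain ⟨t, htn, hto⟩ := exists_common_zero_not_mem T' (fun i => formVec f (![x, r1, r2] i)) (by omega)
    refine htn (Submodule.span_le.2 (fun y hy => ?_)
      (S.mem_span_isoPerp ![x, r1, r2] (fun i => by fin_cases i; exacts [hx, hr1, hr2]) le_rfl (w := t)
        (fun i => by rw [← formVec_dot S.hl]; exact hto i)))
    exact ⟨_, hall y hy, by rw [mulVecLin_apply, gl_inv_mulVec]⟩
  set z := (g : Matrix ι ι F) *ᵥ y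
  have hpl : IsPlane f x y := ⟨hxx, hyy, swap_eq_zero hf (hyo 0)⟩
  have hk : eich σ f (ζ * 1) a z ∈ M := by
    rw [← eich_conj hf (S.iso g hg) _ hpl]
    exact M.mul_mem (M.mul_mem hg (S.hE x y hx hy hpl 1 (one_mem _))) (M.inv_mem hg)
  have hzw : f z w = 0 := by
    rw [← gl_mulVec_inv g w, S.iso g hg, hre]
    exact S.split_orth (hyo 1) (hyo 2)
  have hP := hpl.map (S.iso g hg)
  have hkw : (eich σ f (ζ * 1) a z : Matrix ι ι F) *ᵥ w = w :=
    eich_fix hf hP _ (swap_eq_zero hf haw) (swap_eq_zero hf hzw)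
  obtain ⟨u, hu, huo, huz⟩ : ∃ u, Rat F₀ u ∧ (∀ i, f u (![w, a1, a2] i) = 0) ∧ f u z ≠ 0 := by
    by_contra hall
    push Not at hall
    exact hyT (S.perp_perp ![w, a1, a2] (fun i => by fin_cases i; exacts [hw, ha1, ha2]) hall)
  have hua : f u a = 0 := by rw [hae]; exact S.split_orth (huo 1) (huo 2)
  obtain ⟨r, μ, hr, e⟩ := S.diff_mem hG hw hww hw0 hk hkw hu (huo 0)
  rw [eich_mulVec hf hP, hua, mul_zero, zero_smul, add_zero, sub_sub_cancel_left, ← neg_smul] at e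
  refine ⟨_, μ, r, neg_ne_zero.2 (mul_ne_zero ?_ huz), hr, by rw [e, add_comm]⟩
  simpa using S.zeta

/-- Rational up to scalars. -/
theorem rat_of_orth [Finite F] (hK : KeyProp F₀ f M) {g : GL ι F} (hg : g ∈ M) {x w : ι → F}
    (hx : Rat F₀ x) (hxx : f x x = 0) (hx0 : x ≠ 0) (hw : Rat F₀ w) (hww : f w w = 0) (hw0 : w ≠ 0)
    (haw : f ((g : Matrix ι ι F) *ᵥ x) w = 0) :
    ∃ l : F, l ≠ 0 ∧ Rat F₀ (l • ((g : Matrix ι ι F) *ᵥ x)) := by
  have hf := S.herm
  set a := (g : Matrix ι ι F) *ᵥ x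
  obtain ⟨l, μ, r, hl, hr, heq⟩ := hK g hg x w hx hxx hx0 hw hww hw0 haw
  by_cases hμ : μ ∈ F₀
  · exact ⟨l, hl, heq ▸ rat_add (hw.smul hμ) hr⟩
  by_cases hrn : r ∈ Submodule.span F {w}
  · obtain ⟨d, rfl⟩ := Submodule.mem_span_singleton.1 hrn
    rw [← add_smul] at heq
    have hμd : μ + d ≠ 0 := fun h0 => by
      rw [h0, zero_smul, smul_eq_zero] at heq
      exact heq.elim hl fun h => hx0 (gl_mulVec_injective g (by simpa [a] using h))
    exact ⟨(μ + d)⁻¹ * l, mul_ne_zero (inv_ne_zero hμd) hl, by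
      rw [mul_smul, heq, inv_smul_smul₀ hμd]; exact hw⟩
  exfalso
  obtain ⟨w₂, ⟨hw₂, hw₂w₂, hw₂o⟩, hw₂n⟩ := S.iso_avoid ![w, r]
    (fun i => by fin_cases i; exacts [hw, hr]) ![w, r] (fun i => by fin_cases i; exacts [hw, hr])
    (by norm_num) (by norm_num)
  have hw₂0 : w₂ ≠ 0 := fun e => hw₂n (e ▸ Submodule.zero_mem _)
  have haw₂ : f a w₂ = 0 := by
    have h1 : f (l • a) w₂ = 0 := by
      rw [heq, hf.add_left, hf.smul_left, swap_eq_zero hf (show f w₂ w = 0 from hw₂o 0),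
        swap_eq_zero hf (show f w₂ r = 0 from hw₂o 1), mul_zero, add_zero]
    rw [hf.smul_left] at h1
    exact (mul_eq_zero.1 h1).resolve_left hl
  obtain ⟨l₂, μ₂, r₂, hl₂, hr₂, heq₂⟩ := hK g hg x w₂ hx hxx hx0 hw₂ hw₂w₂ hw₂0 haw₂
  have hP : ∀ y, Rat F₀ y → f w₂ y = 0 → f r₂ y = 0 → f w y = 0 ∧ f r y = 0 := by
    intro y hy h1 h2
    have h3 : f (l • a) y = 0 := by
      have : f (l₂ • a) y = 0 := by
        rw [heq₂, hf.add_left, hf.smul_left, h1, h2, mul_zero, add_zero]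
      rw [hf.smul_left] at this ⊢
      rw [(mul_eq_zero.1 this).resolve_left hl₂, mul_zero]
    rw [heq, hf.add_left, hf.smul_left] at h3
    have h4 : μ * (ζ * f w y) + ζ * f r y = 0 := by linear_combination ζ * h3
    by_cases hwy : f w y = 0
    · rw [hwy, mul_zero, zero_add] at h3; exact ⟨hwy, h3⟩
    · refine absurd ?_ hμ
      have : μ = -(ζ * f r y) / (ζ * f w y) := by
        rw [eq_div_iff (mul_ne_zero S.zeta hwy)]; linear_combination h4
      rw [this]
      exact div_mem (neg_mem (S.rat r y hr hy)) (S.rat w y hw hy)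
  have hmem : ∀ s, Rat F₀ s → (∀ y, Rat F₀ y → f w₂ y = 0 → f r₂ y = 0 → f s y = 0) →
      s ∈ Submodule.span F {w₂, r₂} := fun s hs h => by
    by_contra hn
    obtain ⟨y, hy, hyo, hy1⟩ := S.sep ![w₂, r₂] (fun i => by fin_cases i; exacts [hw₂, hr₂]) hs
      (by simpa [Matrix.range_cons, Set.pair_comm] using hn)
    rw [h y hy (hyo 0) (hyo 1), mul_zero] at hy1
    exact zero_ne_one hy1
  have hle : Submodule.span F {w, r} ≤ Submodule.span F {w₂, r₂} := by
    rw [Submodule.span_le]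
    rintro z (rfl | rfl)
    · exact hmem _ hw fun y hy h1 h2 => (hP y hy h1 h2).1
    · exact hmem _ hr fun y hy h1 h2 => (hP y hy h1 h2).2
  apply hw₂n
  have hli : LinearIndependent F ![w, r] := by
    rw [LinearIndependent.pair_iff' hw0]
    exact fun d hd => hrn (Submodule.mem_span_singleton.2 ⟨d, hd⟩)
  have h2 : Module.finrank F (Submodule.span F {w, r}) = 2 := by
    have := finrank_span_eq_card hli
    rwa [Matrix.range_cons_cons_empty, Fintype.card_fin] at this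
  have h3 : Module.finrank F (Submodule.span F {w₂, r₂}) ≤ 2 := by
    have := finrank_span_range_le (F := F) ![w₂, r₂]
    rwa [Matrix.range_cons_cons_empty] at this
  have heq' := Submodule.eq_of_le_of_finrank_le hle (by rw [h2]; exact h3)
  have : w₂ ∈ Submodule.span F {w, r} := heq' ▸ Submodule.subset_span (by simp)
  simpa [Matrix.range_cons, Set.pair_comm] using this

/-- A rational isotropic vector with rational image makes the element rational. -/
theorem ratUpTo_of_point [Finite F] (hK : KeyProp F₀ f M) {g : GL ι F} (hg : g ∈ M) {x : ι → F}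
    (hx : Rat F₀ x) (hxx : f x x = 0) (hx0 : x ≠ 0) {lx : F} (hlx : lx ≠ 0)
    (hxr : Rat F₀ (lx • ((g : Matrix ι ι F) *ᵥ x))) : RatUpTo F₀ g := by
  have hf := S.herm
  have hperp : ∀ v, Rat F₀ v → f v v = 0 → v ≠ 0 → ∀ (l : F) (y : ι → F), f y y = 0 → y ≠ 0 →
      l ≠ 0 → Rat F₀ (l • ((g : Matrix ι ι F) *ᵥ y)) → f v y = 0 →
      ∃ l : F, l ≠ 0 ∧ Rat F₀ (l • ((g : Matrix ι ι F) *ᵥ v)) := by
    intro v hv hvv hv0 l y hyy hy0 hl hyr hvy
    refine S.rat_of_orth hK hg hv hvv hv0 hyr ?_ ?_ ?_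
    · rw [hf.smul_left, smul_right hf, S.iso g hg, hyy, mul_zero, mul_zero]
    · exact smul_ne_zero hl fun e => hy0 (gl_mulVec_injective g (by simpa using e))
    · rw [smul_right hf, S.iso g hg, hvy, mul_zero]
  have hall : ∀ v, Rat F₀ v → f v v = 0 → v ≠ 0 →
      ∃ l : F, l ≠ 0 ∧ Rat F₀ (l • ((g : Matrix ι ι F) *ᵥ v)) := by
    intro v hv hvv hv0
    obtain ⟨v', ⟨hv', hv'v', hv'o⟩, hv'0⟩ :=
      S.iso_ne ![v, x] (fun i => by fin_cases i; exacts [hv, hx]) (by norm_num)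
    obtain ⟨l', hl', hv'r⟩ := hperp v' hv' hv'v' hv'0 lx x hxx hx0 hlx hxr (hv'o 1)
    exact hperp v hv hvv hv0 l' v' hv'v' hv'0 hl' hv'r (swap_eq_zero hf (hv'o 0))
  have hprod : ∀ u v : ι → F, ∀ a b : F, Rat F₀ (a • ((g : Matrix ι ι F) *ᵥ u)) →
      Rat F₀ (b • ((g : Matrix ι ι F) *ᵥ v)) → Rat F₀ u → Rat F₀ v → f u v ≠ 0 → a * σ b ∈ F₀ := by
    intro u v a b hu hv hur hvr huv
    have h1 := S.rat _ _ hu hv
    rw [hf.smul_left, smul_right hf, S.iso g hg] at h1
    have h2 := div_mem h1 (S.rat u v hur hvr)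
    convert h2 using 1
    have h0 := S.zeta
    field_simp
  have hcol : ∀ v, Rat F₀ v → f v v = 0 → Rat F₀ (lx • ((g : Matrix ι ι F) *ᵥ v)) := by
    intro v hv hvv
    rcases eq_or_ne v 0 with rfl | hv0
    · rw [mulVec_zero, smul_zero]; exact rat_zero
    obtain ⟨l, hl, hvr⟩ := hall v hv hvv hv0
    obtain ⟨z, hz, hzz, hz1, hz2⟩ :
        ∃ z, Rat F₀ z ∧ f z z = 0 ∧ f z x ≠ 0 ∧ f z v ≠ 0 := by
      have hne : ∀ {c s : ι → F}, ζ * f c s = 1 → f c s ≠ 0 := fun {c s} h e => by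
        rw [e, mul_zero] at h; exact zero_ne_one h
      by_cases hvx : v ∈ Submodule.span F {x}
      · obtain ⟨d, rfl⟩ := Submodule.mem_span_singleton.1 hvx
        obtain ⟨z, ⟨hz, hzz, -⟩, hzx⟩ := S.iso_dual (![] : Fin 0 → ι → F) (fun i => i.elim0)
          (by norm_num) hx (by simpa using hx0)
        refine ⟨z, hz, hzz, hne hzx, ?_⟩
        rw [smul_right hf]
        exact mul_ne_zero (by simpa using fun h : d = 0 => hv0 (by rw [h, zero_smul])) (hne hzx)
      · have hn : x ∉ Submodule.span F (Set.range ![v - x]) := by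
          intro hm
          rw [show Set.range ![v - x] = {v - x} by simp [Matrix.range_cons]] at hm
          obtain ⟨c, hc⟩ := Submodule.mem_span_singleton.1 hm
          have hc0 : c ≠ 0 := fun e => hx0 (by rw [← hc, e, zero_smul])
          refine hvx (Submodule.mem_span_singleton.2 ⟨c⁻¹ + 1, ?_⟩)
          have : v = c⁻¹ • x + x := by rw [← hc, inv_smul_smul₀ hc0, hc]; abel
          rw [this]; module
        obtain ⟨z, ⟨hz, hzz, hzo⟩, hzx⟩ := S.iso_dual ![v - x]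
          (fun i => by fin_cases i; exact hv.sub hx) (by norm_num) hx hn
        have h0 : f z (v - x) = 0 := hzo 0
        rw [sub_right hf, sub_eq_zero] at h0
        exact ⟨z, hz, hzz, hne hzx, h0 ▸ hne hzx⟩
    have hz0 : z ≠ 0 := fun e => hz1 (by rw [e, form_zero_left S.hl])
    obtain ⟨lz, hlz, hzr⟩ := hall z hz hzz hz0
    have h3 : lx / l ∈ F₀ := S.sig_inv (by
      have := div_mem (hprod z x lz lx hzr hxr hz hx hz1) (hprod z v lz l hzr hvr hz hv hz2)
      rwa [mul_div_mul_left _ _ hlz, ← map_div₀] at this)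
    have := hvr.smul h3
    rwa [smul_smul, div_mul_cancel₀ _ hl] at this
  refine ⟨lx, hlx, fun i j => ?_⟩
  have := S.iso_induction (![] : Fin 0 → ι → F) (fun k => k.elim0) (by norm_num)
    (P := fun v => Rat F₀ (lx • ((g : Matrix ι ι F) *ᵥ v)))
    (fun c hc => hcol c hc.1 hc.2.1)
    (fun a b ha hb => by rw [mulVec_add, smul_add]; exact rat_add ha hb)
    (fun l hl a ha => by rw [mulVec_smul, smul_comm]; exact ha.smul hl)
    (Rat.single j (one_mem F₀)) (fun k => k.elim0) i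
  rwa [Pi.smul_apply, smul_eq_mul, mulVec_single_one] at this

/-- Rigidity for subfields of index two. -/
theorem rational_index_two [Finite F] (hG : ¬ Good F₀ f ζ M) {θ : F}
    (hθ : ∀ x : F, ∃ a ∈ F₀, ∃ b ∈ F₀, x = a + θ * b) {g : GL ι F} (hg : g ∈ M) :
    RatUpTo F₀ g := by
  obtain ⟨x, ⟨hx, hxx, -⟩, hx0⟩ := S.iso_ne (![] : Fin 0 → ι → F) (fun i => i.elim0) (by norm_num)
  obtain ⟨a1, a2, ha1, ha2, hae⟩ := split hθ ((g : Matrix ι ι F) *ᵥ x)
  obtain ⟨w, ⟨hw, hww, hwo⟩, hw0⟩ :=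
    S.iso_ne ![a1, a2] (fun i => by fin_cases i; exacts [ha1, ha2]) (by norm_num)
  have haw : f ((g : Matrix ι ι F) *ᵥ x) w = 0 := by
    refine swap_eq_zero S.herm ?_
    rw [hae]
    exact S.split_orth (hwo 0) (hwo 1)
  have hK := S.key_of_index_two hG hθ
  obtain ⟨l, hl, hr⟩ := S.rat_of_orth hK hg hx hxx hx0 hw hww hw0 haw
  exact S.ratUpTo_of_point hK hg hx hxx hx0 hl hr

/-- Rigidity in the presence of rational transvections. -/
theorem rational_tv [Finite F] (hG : ¬ Good F₀ f ζ M) (hζ : ζ = 1) {e : F} (he0 : e ≠ 0)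
    (heF : e ∈ F₀) (hT : ∀ v, Rat F₀ v → f v v = 0 → tv v (e • formVec f v) ∈ M) {g : GL ι F}
    (hg : g ∈ M) : RatUpTo F₀ g := by
  have hf := S.herm
  have hK := S.key_of_tv hG he0 hT
  have hrat : ∀ u v, Rat F₀ u → Rat F₀ v → f u v ∈ F₀ := fun u v hu hv => by
    simpa [hζ] using S.rat u v hu hv
  obtain ⟨e₁, ⟨he₁, h11, -⟩, he₁0⟩ :=
    S.iso_ne (![] : Fin 0 → ι → F) (fun i => i.elim0) (by norm_num)
  obtain ⟨e₂, ⟨he₂, h22, he₂o⟩, he₂n⟩ := S.iso_avoid ![e₁] (fun i => by fin_cases i; exact he₁)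
    ![e₁] (fun i => by fin_cases i; exact he₁) (by norm_num) (by norm_num)
  have h21 : f e₂ e₁ = 0 := he₂o 0
  obtain ⟨v₁, -, -, hv₁⟩ := S.sep (![] : Fin 0 → ι → F) (fun i => i.elim0) he₁ (by simpa using he₁0)
  obtain ⟨v₂, -, hv₂o, hv₂⟩ := S.sep ![e₁] (fun i => by fin_cases i; exact he₁) he₂ he₂n
  rw [hζ, one_mul] at hv₁ hv₂
  have hratT : ∀ v, Rat F₀ v → f v v = 0 → ∀ i j,
      ((tv v (e • formVec f v) : GL ι F) : Matrix ι ι F) i j ∈ F₀ := by
    intro v hv hvv i j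
    rw [coe_tv (utv_dot hf hvv e), Matrix.add_apply, vecMulVec_apply]
    refine add_mem ?_ (mul_mem (hv i) (mul_mem heF (hrat _ _ (Rat.single j (one_mem _)) hv)))
    by_cases hij : i = j
    · subst hij; rw [Matrix.one_apply_eq]; exact one_mem _
    · rw [Matrix.one_apply_ne hij]; exact zero_mem _
  refine rigid_of_orth (f := f) (Sing := fun w => f w w = 0) (fun φ hφ => ?_) S.hl
    (fun x v w => add_right hf x v w) (fun v hv => (hf.nondegenerate v hv).1)
    (fun _ _ => swap_eq_zero hf) hrat S.iso he₁ he₂ ?_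
    ?_ (hT e₁ he₁ h11) ?_ (hratT e₁ he₁ h11) ?_ (hT e₂ he₂ h22)
    (hratT e₂ he₂ h22) ?_ ?_ hg
  · obtain ⟨w, ⟨hw, hww, hwo⟩, hw0⟩ := S.iso_ne φ hφ le_rfl
    exact ⟨w, hw, hw0, hww, hwo⟩
  · intro u hu v hv
    obtain ⟨a, b, rfl⟩ := Submodule.mem_span_pair.1 hu
    obtain ⟨c, d, rfl⟩ := Submodule.mem_span_pair.1 hv
    simp [hf.add_left, hf.smul_left, add_right hf, smul_right hf, h11, h22, h21, swap_eq_zero hf h21]
  · intro g hg x w hxE hx hx0 hw hw0 hww h
    obtain ⟨a, b, rfl⟩ := Submodule.mem_span_pair.1 hxE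
    have hxx : f (a • e₁ + b • e₂) (a • e₁ + b • e₂) = 0 := by
      simp [hf.add_left, hf.smul_left, add_right hf, smul_right hf, h11, h22, h21,
        swap_eq_zero hf h21]
    obtain ⟨l, hl, hr⟩ := S.rat_of_orth hK hg hx hxx hx0 hw hww hw0 (swap_eq_zero hf h)
    exact S.ratUpTo_of_point hK hg hx hxx hx0 hl hr
  · intro v
    rw [utv_mulVec hf h11, add_sub_cancel_left]
    exact Submodule.smul_mem _ _ (Submodule.mem_span_singleton_self e₁)
  · intro h
    have := congrArg (fun z : GL ι F => (z : Matrix ι ι F) *ᵥ v₁) h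
    simp only [utv_mulVec hf h11, Units.val_one, one_mulVec, add_eq_left, smul_eq_zero] at this
    rcases this with h' | h'
    · rw [mul_eq_zero, hf.herm v₁ e₁, hv₁, map_one] at h'
      exact h'.elim he0 one_ne_zero
    · exact he₁0 h'
  · intro v
    rw [utv_mulVec hf h22, add_sub_cancel_left]
    exact Submodule.smul_mem _ _ (Submodule.subset_span (by simp))
  · intro k h
    have hfix : ∀ k : ℕ,
        ((tv e₁ (e • formVec f e₁) ^ k : GL ι F) : Matrix ι ι F) *ᵥ v₂ = v₂ := by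
      intro k
      induction k with
      | zero => simp
      | succ k ih =>
        rw [pow_succ', gl_mul_mulVec, ih, utv_mulVec hf h11, swap_eq_zero hf (show f e₁ v₂ = 0 from hv₂o 0),
          mul_zero, zero_smul, add_zero]
    have := congrArg (fun z : GL ι F => (z : Matrix ι ι F) *ᵥ v₂) h
    simp only [hfix, utv_mulVec hf h22] at this
    rw [hf.herm v₂ e₂, hv₂, map_one, mul_one, add_eq_left, smul_eq_zero] at this
    exact this.elim he0 fun h0 => he₂n (h0 ▸ Submodule.zero_mem _)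

end Setting

end Cfsg.Agent.Lib.SubfieldMax.Unitary
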