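import Cfsg.Agent.Lib.SubfieldMax.Unitary.Eich
import Cfsg.Agent.Lib.SubfieldMax.RatLin

/-!
Rational isotropic vectors for a subfield structure of a unitary form.
-/

set_option autoImplicit false

namespace Cfsg.Agent.Lib.SubfieldMax.Unitary

open Matrix Cfsg.Agent.Lib.Subspaces.Transvection Cfsg.Agent.Lib.Subspaces.FormVec
  Cfsg.Agent.Lib.Subspaces.UnitaryForm Cfsg.Agent.Lib.Subspaces.UnitaryEichler
  Cfsg.Agent.Lib.SubfieldMax.Linear Cfsg.Agent.Lib.SubfieldMax.RatLin

variable {ι : Type} [Fintype ι] [DecidableEq ι] {F : Type*} [Field F]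

/-- Standing data: a unitary form, up to the scalar `ζ` rational on rational vectors, and a group of
isometries containing the rational isometries attached to rational planes. -/
structure Setting (σ : F ≃+* F) (F₀ : Subfield F) (f : (ι → F) → (ι → F) → F) (ζ : F)
    (M : Subgroup (GL ι F)) : Prop where
  herm : Cfsg.Geo.IsUnitaryForm σ f
  sig : ∀ x ∈ F₀, σ x ∈ F₀
  zeta : ζ ≠ 0
  sigz : σ ζ / ζ ∈ F₀
  rat : ∀ u v, Rat F₀ u → Rat F₀ v → ζ * f u v ∈ F₀
  iso : ∀ g ∈ M, ∀ u v, f ((g : Matrix ι ι F) *ᵥ u) ((g : Matrix ι ι F) *ᵥ v) = f u v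
  hE : ∀ a b, Rat F₀ a → Rat F₀ b → IsPlane f a b → ∀ c ∈ F₀, eich σ f (ζ * c) a b ∈ M
  card : 10 ≤ Fintype.card ι
  kind : (∀ v, Rat F₀ v → f v v = 0) ∨ (ζ = 1 ∧ ∃ μ ∈ F₀, μ + σ μ ≠ 0)

theorem rat_add {F₀ : Subfield F} {v w : ι → F} (h : Rat F₀ v) (h' : Rat F₀ w) : Rat F₀ (v + w) :=
  fun i => add_mem (h i) (h' i)

theorem rat_zero {F₀ : Subfield F} : Rat F₀ (0 : ι → F) := fun _ => zero_mem _

/-- Rational isotropic vectors orthogonal to the given ones. -/
def isoPerp (F₀ : Subfield F) (f : (ι → F) → (ι → F) → F) {k : ℕ} (u : Fin k → ι → F) :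
    Set (ι → F) := {c | Rat F₀ c ∧ f c c = 0 ∧ ∀ i, f c (u i) = 0}

namespace Setting

variable {σ : F ≃+* F} {F₀ : Subfield F} {f : (ι → F) → (ι → F) → F} {ζ : F}
  {M : Subgroup (GL ι F)} (S : Setting σ F₀ f ζ M)
include S

theorem hl : IsLinearLeft f := isLinearLeft_of_unitary S.herm

theorem sig_inv {x : F} (h : σ x ∈ F₀) : x ∈ F₀ := by
  have := S.sig _ h
  rwa [S.herm.involutive] at this

theorem sigz' : ζ / σ ζ ∈ F₀ := by
  have := inv_mem S.sigz
  rwa [inv_div] at this

theorem sigma_zeta_ne : σ ζ ≠ 0 := by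
  simpa using S.zeta

theorem sigma_mul {c : F} (hc : c ∈ F₀) : ∃ d ∈ F₀, σ (ζ * c) = ζ * d :=
  ⟨σ ζ / ζ * σ c, mul_mem S.sigz (S.sig c hc), by
    rw [map_mul, ← mul_assoc, mul_div_cancel₀ _ S.zeta]⟩

/-- The scaled form. -/
theorem phiLinear : IsLinearLeft fun u v => ζ * f u v :=
  ⟨fun x y v => by simp only [S.herm.add_left]; ring, fun c x v => by simp only [S.herm.smul_left]; ring⟩

theorem phi_add (x v w : ι → F) : ζ * f x (v + w) = ζ * f x v + ζ * f x w := by
  rw [add_right S.herm, mul_add]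

theorem phi_nondeg : Cfsg.Geo.IsNondegenerateForm fun u v => ζ * f u v := fun v hv => by
  obtain ⟨⟨x, hx⟩, ⟨y, hy⟩⟩ := S.herm.nondegenerate v hv
  exact ⟨⟨x, mul_ne_zero S.zeta hx⟩, ⟨y, mul_ne_zero S.zeta hy⟩⟩

theorem rat_phiVec {v : ι → F} (hv : Rat F₀ v) : Rat F₀ (formVec (fun u w => ζ * f u w) v) :=
  fun i => S.rat _ _ (Rat.single i (one_mem _)) hv

/-- Separation by rational vectors. -/
theorem sep [Finite F] {k : ℕ} (u : Fin k → ι → F) (hu : ∀ i, Rat F₀ (u i)) {s : ι → F}
    (hs : Rat F₀ s) (hns : s ∉ Submodule.span F (Set.range u)) :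
    ∃ y : ι → F, Rat F₀ y ∧ (∀ i, f (u i) y = 0) ∧ ζ * f s y = 1 := by
  obtain ⟨χ, hχ, hχu, hχs⟩ := exists_sep u hu hs hns
  obtain ⟨y, hy, rfl⟩ := exists_rat_formVec S.phiLinear S.phi_add S.phi_nondeg S.rat hχ
  refine ⟨y, hy, fun i => ?_, ?_⟩
  · have := hχu i
    rw [formVec_dot S.phiLinear] at this
    exact (mul_eq_zero.1 this).resolve_left S.zeta
  · rw [formVec_dot S.phiLinear] at hχs
    exact hχs

/-- Rational vectors orthogonal to few, outside the span of few. -/
theorem orth [Finite F] {k l : ℕ} (φ : Fin k → ι → F) (hφ : ∀ i, Rat F₀ (φ i)) (u : Fin l → ι → F)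
    (hu : ∀ i, Rat F₀ (u i)) (h : k + l < Fintype.card ι) :
    ∃ z : ι → F, Rat F₀ z ∧ z ∉ Submodule.span F (Set.range u) ∧ ∀ i, f z (φ i) = 0 := by
  obtain ⟨z, hz, hzn, hzφ⟩ := exists_orth_not_mem (fun i => formVec (fun u w => ζ * f u w) (φ i))
    (fun i => S.rat_phiVec (hφ i)) u hu h
  refine ⟨z, hz, hzn, fun i => ?_⟩
  have := hzφ i
  rw [formVec_dot S.phiLinear] at this
  exact (mul_eq_zero.1 this).resolve_left S.zeta

theorem perp_span {k : ℕ} {u : Fin k → ι → F} {z : ι → F} (h : ∀ i, f z (u i) = 0) {v : ι → F}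
    (hv : v ∈ Submodule.span F (Set.range u)) : f z v = 0 := by
  induction hv using Submodule.span_induction with
  | mem v hv => obtain ⟨i, rfl⟩ := hv; exact h i
  | zero => exact zero_right S.herm z
  | add x y _ _ hx hy => rw [add_right S.herm, hx, hy, add_zero]
  | smul a x _ hx => rw [smul_right S.herm, hx, mul_zero]

/-- An anisotropic rational vector orthogonal to few, given one outside their span. -/
theorem aniso_of [Finite F] (hζ : ζ = 1) {μ : F} (hμ : μ ∈ F₀) (hμ0 : μ + σ μ ≠ 0) {m : ℕ}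
    (p : Fin m → ι → F) (hp : ∀ i, Rat F₀ (p i)) {y : ι → F} (hy : Rat F₀ y)
    (hyn : y ∉ Submodule.span F (Set.range p)) (hyo : ∀ i, f y (p i) = 0) :
    ∃ y, Rat F₀ y ∧ (∀ i, f y (p i) = 0) ∧ f y y ≠ 0 := by
  obtain ⟨w, hw, hwo, hyw⟩ := S.sep p hp hy hyn
  rw [hζ, one_mul] at hyw
  by_cases h1 : f y y = 0
  · by_cases h2 : f w w = 0
    · refine ⟨y + μ • w, rat_add hy (hw.smul hμ), fun i => ?_, ?_⟩
      · rw [S.herm.add_left, S.herm.smul_left, hyo, swap_eq_zero S.herm (hwo i), mul_zero, add_zero]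
      · rw [expand_add_smul S.herm, h1, h2, S.herm.herm w y, hyw, map_one, mul_one, zero_add,
          mul_zero, add_zero]
        exact hμ0
    · exact ⟨w, hw, fun i => swap_eq_zero S.herm (hwo i), h2⟩
  · exact ⟨y, hy, hyo, h1⟩

/-- An anisotropic rational vector orthogonal to few. -/
theorem aniso [Finite F] (hζ : ζ = 1) {μ : F} (hμ : μ ∈ F₀) (hμ0 : μ + σ μ ≠ 0) {m : ℕ}
    (p : Fin m → ι → F) (hp : ∀ i, Rat F₀ (p i)) (hm : 2 * m < Fintype.card ι) :
    ∃ y, Rat F₀ y ∧ (∀ i, f y (p i) = 0) ∧ f y y ≠ 0 := by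
  obtain ⟨y, hy, hyn, hyo⟩ := S.orth p hp p hp (by omega)
  exact S.aniso_of hζ hμ hμ0 p hp hy hyn hyo

theorem mem_span_rat {k : ℕ} (u : Fin k → ι → F) (hu : ∀ i, Rat F₀ (u i))
    {w : ι → F} (hw : ∀ i, f w (u i) = 0) :
    w ∈ Submodule.span F {z | Rat F₀ z ∧ ∀ i, f z (u i) = 0} := by
  induction k generalizing w with
  | zero =>
    rw [show w = ∑ i, w i • (Pi.single i 1 : ι → F) by
      conv_lhs => rw [← Finset.univ_sum_single w]
      exact Finset.sum_congr rfl fun i _ => by rw [← Pi.single_smul, smul_eq_mul, mul_one]]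
    exact Submodule.sum_mem _ fun i _ => Submodule.smul_mem _ _
      (Submodule.subset_span ⟨Rat.single i (one_mem _), fun j => j.elim0⟩)
  | succ k ih =>
    have h1 := ih (fun i => u i.castSucc) (fun i => hu _) (fun i => hw _)
    set v := u (Fin.last k)
    set T : Set (ι → F) := {z | Rat F₀ z ∧ ∀ i, f z (u i) = 0}
    have hv : f w v = 0 := hw _
    by_cases hall : ∀ z, Rat F₀ z → (∀ i : Fin k, f z (u i.castSucc) = 0) → f z v = 0
    · refine Submodule.span_mono (fun z hz => show z ∈ T from ⟨hz.1, fun i => ?_⟩) h1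
      induction i using Fin.lastCases with
      | last => exact hall z hz.1 hz.2
      | cast i => exact hz.2 i
    · push Not at hall
      obtain ⟨s, hs, hso, hsv⟩ := hall
      set d := ζ * f s v
      have hd : d ∈ F₀ := S.rat _ _ hs (hu _)
      have hd0 : d ≠ 0 := mul_ne_zero S.zeta hsv
      have key : ∀ z, z ∈ Submodule.span F {z | Rat F₀ z ∧ ∀ i : Fin k, f z (u i.castSucc) = 0} →
          z - (ζ * f z v / d) • s ∈ Submodule.span F T := by
        intro z hz
        induction hz using Submodule.span_induction with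
        | mem z hz =>
          refine Submodule.subset_span ⟨hz.1.sub (hs.smul (div_mem (S.rat _ _ hz.1 (hu _)) hd)), fun i => ?_⟩
          rw [form_sub_left S.hl, S.herm.smul_left]
          induction i using Fin.lastCases with
          | last =>
            have h0 := S.zeta
            show f z v - ζ * f z v / (ζ * f s v) * f s v = 0
            field_simp
            ring
          | cast i => rw [hz.2 i, hso i, mul_zero, sub_zero]
        | zero => simp [form_zero_left S.hl]
        | add x y _ _ hx hy =>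
          have := Submodule.add_mem _ hx hy
          convert this using 1
          rw [S.herm.add_left, mul_add, add_div, add_smul]
          abel
        | smul a x _ hx =>
          have := Submodule.smul_mem _ a hx
          convert this using 1
          rw [S.herm.smul_left, smul_sub, smul_smul]
          congr 2
          ring
      have := key w h1
      rwa [hv, mul_zero, zero_div, zero_smul, sub_zero] at this

/-- The vectors orthogonal to given ones. -/
def perpTo {k : ℕ} (u : Fin k → ι → F) : Submodule F (ι → F) where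
  carrier := {w | ∀ i, f w (u i) = 0}
  zero_mem' i := form_zero_left S.hl _
  add_mem' ha hb i := by rw [S.herm.add_left, ha i, hb i, add_zero]
  smul_mem' c _ ha i := by rw [S.herm.smul_left, ha i, mul_zero]

theorem le_finrank_perpTo {k : ℕ} (u : Fin k → ι → F) :
    Fintype.card ι ≤ Module.finrank F (S.perpTo u) + k := by
  let L : (ι → F) →ₗ[F] (Fin k → F) :=
    { toFun := fun w i => f w (u i)
      map_add' := fun a b => funext fun i => S.herm.add_left a b (u i)
      map_smul' := fun c a => funext fun i => S.herm.smul_left c a (u i) }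
  have hle : LinearMap.ker L ≤ S.perpTo u := fun w hw i => congrFun (LinearMap.mem_ker.1 hw) i
  have h1 := Submodule.finrank_mono hle
  have h2 := LinearMap.finrank_range_add_finrank_ker L
  have h3 := Submodule.finrank_le (LinearMap.range L)
  rw [Module.finrank_fintype_fun_eq_card, Fintype.card_fin] at h3
  rw [Module.finrank_fintype_fun_eq_card] at h2
  omega

/-- An anisotropic rational vector orthogonal to given ones, unless their span swallows their orthogonal. -/
theorem aniso_out [Finite F] (hζ : ζ = 1) {μ : F} (hμ : μ ∈ F₀) (hμ0 : μ + σ μ ≠ 0) {m : ℕ}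
    (p : Fin m → ι → F) (hp : ∀ i, Rat F₀ (p i))
    (h : ¬ S.perpTo p ≤ Submodule.span F (Set.range p)) :
    ∃ y, Rat F₀ y ∧ (∀ i, f y (p i) = 0) ∧ f y y ≠ 0 := by
  by_contra hc
  refine h fun w hw => Submodule.span_le.2 (fun z hz => ?_) (S.mem_span_rat p hp hw)
  by_contra hzn
  exact hc (S.aniso_of hζ hμ hμ0 p hp hz.1 hzn hz.2)

/-- A solution of the norm equation in the fixed points of the subfield. -/
theorem quad [Finite F] {A B C : F} (hA : A ∈ F₀) (hB : B ∈ F₀) (hC : C ∈ F₀) (hA' : σ A = A)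
    (hB' : σ B = B) (hC' : σ C = C) (hB0 : B ≠ 0) (hC0 : C ≠ 0) :
    ∃ a b : F, a ∈ F₀ ∧ b ∈ F₀ ∧ σ a = a ∧ σ b = b ∧ A + B * a ^ 2 + C * b ^ 2 = 0 := by
  obtain ⟨⟨a, ha, ha'⟩, ⟨b, hb, hb'⟩, hab⟩ := exists_quad_root
    (⟨A, hA, hA'⟩ : (F₀ ⊓ RingHom.eqLocusField (σ : F →+* F) (RingHom.id F) : Subfield F))
    ⟨B, hB, hB'⟩ ⟨C, hC, hC'⟩ (fun h => hB0 (congrArg Subtype.val h))
    (fun h => hC0 (congrArg Subtype.val h))
  exact ⟨a, b, ha, hb, ha', hb', congrArg Subtype.val hab⟩

/-- The dual isotropic vector. -/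
theorem iso_dual [Finite F] {k : ℕ} (u : Fin k → ι → F) (hu : ∀ i, Rat F₀ (u i)) (hk : k ≤ 3)
    {s : ι → F} (hs : Rat F₀ s) (hns : s ∉ Submodule.span F (Set.range u)) :
    ∃ c, c ∈ isoPerp F₀ f u ∧ ζ * f c s = 1 := by
  obtain ⟨y, hy, hyo, hys⟩ := S.sep u hu hs hns
  rcases S.kind with hkind | ⟨hζ, μ, hμ, hμ0⟩
  · refine ⟨(σ ζ / ζ) • y, ⟨hy.smul S.sigz, hkind _ (hy.smul S.sigz), fun i => ?_⟩, ?_⟩
    · rw [S.herm.smul_left, swap_eq_zero S.herm (hyo i), mul_zero]
    · have hfys : f y s = σ (ζ⁻¹) := by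
        rw [S.herm.herm, show f s y = ζ⁻¹ from eq_inv_of_mul_eq_one_right hys]
      rw [S.herm.smul_left, hfys, map_inv₀, ← mul_assoc, mul_div_cancel₀ _ S.zeta,
        mul_inv_cancel₀ S.sigma_zeta_ne]
  · rw [hζ, one_mul] at hys
    have hcard := S.card
    -- a first anisotropic vector, for any choice of the partner
    have hfirst : ∀ y : ι → F, Rat F₀ y → f s y = 1 →
        ∃ y1, Rat F₀ y1 ∧ f y1 y = 0 ∧ f y1 s = 0 ∧ (∀ i, f y1 (u i) = 0) ∧ f y1 y1 ≠ 0 := by
      intro y hy hys
      obtain ⟨y1, hy1, hy1o, hy1n⟩ := S.aniso_out hζ hμ hμ0 (Fin.cons y (Fin.cons s u))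
        (Fin.cases hy (Fin.cases hs hu)) fun hle => by
          have h1 := S.le_finrank_perpTo (Fin.cons y (Fin.cons s u))
          have h2 := finrank_span_range_le (F := F)
            (Fin.cons y (Fin.cons s u))
          have heq := Submodule.eq_of_le_of_finrank_le hle (by omega)
          have hmem : s ∈ S.perpTo (Fin.cons y (Fin.cons s u)) :=
            heq ▸ Submodule.subset_span ⟨Fin.succ 0, by rw [Fin.cons_succ, Fin.cons_zero]⟩
          exact one_ne_zero (hys.symm.trans (by simpa using hmem 0))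
      refine ⟨y1, hy1, by simpa using hy1o 0, by simpa using hy1o (Fin.succ 0),
        fun i => by simpa using hy1o (Fin.succ (Fin.succ i)), hy1n⟩
    -- the partner may be chosen so that the plane with `s` is non-degenerate
    obtain ⟨y, hy, hyo, hys, hA⟩ : ∃ y, Rat F₀ y ∧ (∀ i, f (u i) y = 0) ∧ f s y = 1 ∧
        f y y * f s s ≠ 1 := by
      by_cases hA : f y y * f s s = 1
      · obtain ⟨z, hz, hzy, hzs, hzu, hzn⟩ := hfirst y hy hys
        refine ⟨y + z, rat_add hy hz, fun i => ?_, ?_, fun e => hzn ?_⟩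
        · rw [add_right S.herm, hyo, swap_eq_zero S.herm (hzu i), add_zero]
        · rw [add_right S.herm, hys, swap_eq_zero S.herm hzs, add_zero]
        · have hss : f s s ≠ 0 := fun e => by rw [e, mul_zero] at hA; exact zero_ne_one hA
          rw [S.herm.add_left, add_right S.herm, add_right S.herm, hzy, swap_eq_zero S.herm hzy] at e
          exact (mul_eq_zero.1 (show f z z * f s s = 0 by linear_combination e - hA)).resolve_right hss
      · exact ⟨y, hy, hyo, hys, hA⟩
    have hys' : f y s = 1 := by rw [S.herm.herm, hys, map_one]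
    obtain ⟨y1, hy1, h1y, h1s, h1u, hy1n⟩ := hfirst y hy hys
    obtain ⟨y2, hy2, hy2o, hy2n⟩ := S.aniso_out hζ hμ hμ0 (Fin.cons y1 (Fin.cons y (Fin.cons s u)))
      (Fin.cases hy1 (Fin.cases hy (Fin.cases hs hu))) fun hle => by
        set p := (Fin.cons y1 (Fin.cons y (Fin.cons s u)) : Fin (k + 1 + 1 + 1) → ι → F) with hp
        have hdim := S.le_finrank_perpTo p
        -- the radical avoids the first vector and lies over a plane
        have hmem : ∀ z ∈ S.perpTo p, ∃ c : F, ∃ w ∈ Submodule.span F (Set.range u),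
            z = c • (y - f y y • s) + w ∧ c * (1 - f y y * f s s) + f w s = 0 := by
          intro z hz
          obtain ⟨co, hco⟩ := (Submodule.mem_span_range_iff_exists_fun F).1 (hle hz)
          rw [Fin.sum_univ_succ, Fin.sum_univ_succ, Fin.sum_univ_succ] at hco
          simp only [hp, Fin.cons_zero, Fin.cons_succ] at hco
          set w := ∑ i : Fin k, co i.succ.succ.succ • u i
          have hw : w ∈ Submodule.span F (Set.range u) :=
            Submodule.sum_mem _ fun i _ => Submodule.smul_mem _ _ (Submodule.subset_span ⟨i, rfl⟩)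
          have hwy1 : f w y1 = 0 := swap_eq_zero S.herm (S.perp_span h1u hw)
          have hwy : f w y = 0 := swap_eq_zero S.herm (S.perp_span (fun i => swap_eq_zero S.herm (hyo i)) hw)
          have z1 : f z y1 = 0 := by simpa [hp] using hz 0
          have zy : f z y = 0 := by simpa [hp] using hz (Fin.succ 0)
          have zs : f z s = 0 := by
            have := hz (Fin.succ (Fin.succ 0))
            rwa [hp, Fin.cons_succ, Fin.cons_succ, Fin.cons_zero] at this
          rw [← hco] at z1 zy zs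
          simp only [S.herm.add_left, S.herm.smul_left, h1y, h1s, swap_eq_zero S.herm h1y,
            swap_eq_zero S.herm h1s, hys, hys', hwy1, hwy, mul_zero, mul_one, add_zero, zero_add] at z1 zy zs
          have hc1 : co 0 = 0 := (mul_eq_zero.1 z1).resolve_right hy1n
          have hd : co (Fin.succ (Fin.succ 0)) = -(co (Fin.succ 0) * f y y) := by linear_combination zy
          refine ⟨co (Fin.succ 0), w, hw, ?_, ?_⟩
          · rw [← hco, hc1, hd]; module
          · rw [hd] at zs; linear_combination zs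
        have hlt : Module.finrank F (S.perpTo p) < 4 := by
          by_cases hus : ∀ i, f s (u i) = 0
          · have hle' : S.perpTo p ≤ Submodule.span F (Set.range u) := fun z hz => by
              obtain ⟨c, w, hw, rfl, hc⟩ := hmem z hz
              rw [swap_eq_zero S.herm (S.perp_span hus hw), add_zero] at hc
              rw [(mul_eq_zero.1 hc).resolve_right (sub_ne_zero.2 (Ne.symm hA)), zero_smul, zero_add]
              exact hw
            have h1 := Submodule.finrank_mono hle'
            have h2 := finrank_span_range_le (F := F) u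
            omega
          · push Not at hus
            obtain ⟨j, hj⟩ := hus
            set v : Fin (k + 1) → ι → F := Fin.cons (y - f y y • s) u
            have hlt : S.perpTo p < Submodule.span F (Set.range v) := by
              refine lt_of_le_not_ge (fun z hz => ?_) fun hge => hj ?_
              · obtain ⟨c, w, hw, rfl, -⟩ := hmem z hz
                refine Submodule.add_mem _ (Submodule.smul_mem _ _ (Submodule.subset_span ⟨0, by simp [v]⟩))
                  (Submodule.span_mono ?_ hw)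
                rintro _ ⟨i, rfl⟩
                exact ⟨i.succ, by simp [v]⟩
              · have hz := hge (Submodule.subset_span (s := Set.range v) ⟨j.succ, rfl⟩) (Fin.succ (Fin.succ 0))
                rw [hp, Fin.cons_succ, Fin.cons_succ, Fin.cons_zero] at hz
                exact swap_eq_zero S.herm (by simpa [v] using hz)
            have h1 := Submodule.finrank_lt_finrank_of_lt hlt
            have h2 := finrank_span_range_le (F := F) v
            omega
        omega
    have h21 : f y2 y1 = 0 := by simpa using hy2o 0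
    have h2y : f y2 y = 0 := by simpa using hy2o (Fin.succ 0)
    have h2s : f y2 s = 0 := by
      have := hy2o (Fin.succ (Fin.succ 0))
      rwa [Fin.cons_succ, Fin.cons_succ, Fin.cons_zero] at this
    have h2u : ∀ i, f y2 (u i) = 0 := fun i => by
      have := hy2o (Fin.succ (Fin.succ (Fin.succ i)))
      rwa [Fin.cons_succ, Fin.cons_succ, Fin.cons_succ] at this
    have hr : ∀ v, Rat F₀ v → f v v ∈ F₀ := fun v hv => by simpa [hζ] using S.rat v v hv hv
    obtain ⟨a, b, ha, hb, ha', hb', hab⟩ := S.quad (hr y hy) (hr y1 hy1) (hr y2 hy2)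
      (self_fixed S.herm y) (self_fixed S.herm y1) (self_fixed S.herm y2) hy1n hy2n
    refine ⟨y + a • y1 + b • y2, ⟨rat_add (rat_add hy (hy1.smul ha)) (hy2.smul hb), ?_, fun i => ?_⟩, ?_⟩
    · simp only [S.herm.add_left, add_right S.herm, S.herm.smul_left, smul_right S.herm, ha', hb',
        h1y, h21, h2y, swap_eq_zero S.herm h1y, swap_eq_zero S.herm h21, swap_eq_zero S.herm h2y]
      linear_combination hab
    · rw [S.herm.add_left, S.herm.add_left, S.herm.smul_left, S.herm.smul_left,
        swap_eq_zero S.herm (hyo i), h1u, h2u]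
      ring
    · rw [hζ, S.herm.add_left, S.herm.add_left, S.herm.smul_left, S.herm.smul_left, hys', h1s, h2s]
      ring

/-- A non-zero isotropic vector orthogonal to at most four. -/
theorem iso_ne [Finite F] {k : ℕ} (u : Fin k → ι → F) (hu : ∀ i, Rat F₀ (u i)) (hk : k ≤ 4) :
    ∃ c, c ∈ isoPerp F₀ f u ∧ c ≠ 0 := by
  have hcard := S.card
  obtain ⟨y1, hy1, hy1x, hy1o⟩ := S.orth u hu (![] : Fin 0 → ι → F) (fun i => i.elim0) (by omega)
  have hy10 : y1 ≠ 0 := fun h => hy1x (by rw [h]; exact Submodule.zero_mem _)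
  by_cases h1 : f y1 y1 = 0
  · exact ⟨y1, ⟨hy1, h1, hy1o⟩, hy10⟩
  rcases S.kind with hkind | ⟨hζ, μ, hμ, hμ0⟩
  · exact absurd (hkind y1 hy1) h1
  obtain ⟨y2, hy2, hy2x, hy2o⟩ := S.orth (Fin.cons y1 u) (Fin.cases hy1 hu)
    (![y1] : Fin 1 → ι → F) (fun i => by fin_cases i; exact hy1) (by omega)
  have h21 : f y2 y1 = 0 := by simpa using hy2o 0
  have h2u : ∀ i, f y2 (u i) = 0 := fun i => by simpa using hy2o (Fin.succ i)
  by_cases h2 : f y2 y2 = 0
  · exact ⟨y2, ⟨hy2, h2, h2u⟩, fun h => hy2x (by rw [h]; exact Submodule.zero_mem _)⟩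
  obtain ⟨y, hy, hyx, hyo⟩ := S.orth (Fin.cons y2 (Fin.cons y1 u)) (Fin.cases hy2 (Fin.cases hy1 hu))
    (![y1, y2] : Fin 2 → ι → F) (fun i => by fin_cases i; exacts [hy1, hy2]) (by omega)
  have hy2' : f y y2 = 0 := by simpa using hyo 0
  have hy1' : f y y1 = 0 := by simpa using hyo (Fin.succ 0)
  have hyu : ∀ i, f y (u i) = 0 := fun i => by simpa using hyo (Fin.succ (Fin.succ i))
  have hr : ∀ v, Rat F₀ v → f v v ∈ F₀ := fun v hv => by simpa [hζ] using S.rat v v hv hv
  obtain ⟨a, b, ha, hb, ha', hb', hab⟩ := S.quad (hr y hy) (hr y1 hy1) (hr y2 hy2)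
    (self_fixed S.herm y) (self_fixed S.herm y1) (self_fixed S.herm y2) h1 h2
  refine ⟨y + a • y1 + b • y2, ⟨rat_add (rat_add hy (hy1.smul ha)) (hy2.smul hb), ?_, fun i => ?_⟩, ?_⟩
  · simp only [S.herm.add_left, add_right S.herm, S.herm.smul_left, smul_right S.herm, ha', hb',
      hy1', h21, hy2', swap_eq_zero S.herm hy1', swap_eq_zero S.herm h21, swap_eq_zero S.herm hy2']
    linear_combination hab
  · rw [S.herm.add_left, S.herm.add_left, S.herm.smul_left, S.herm.smul_left, hyu, hy1o, h2u]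
    ring
  · intro h
    apply hyx
    rw [show y = (-a) • y1 + (-b) • y2 by linear_combination (norm := module) h]
    exact Submodule.add_mem _ (Submodule.smul_mem _ _ (Submodule.subset_span (by simp)))
      (Submodule.smul_mem _ _ (Submodule.subset_span (by simp)))

/-- An isotropic vector orthogonal to few, outside a small span. -/
theorem iso_avoid [Finite F] {k l : ℕ} (u : Fin k → ι → F) (hu : ∀ i, Rat F₀ (u i))
    (a : Fin l → ι → F) (ha : ∀ i, Rat F₀ (a i)) (hk : k ≤ 3) (hl : l + k ≤ 9) :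
    ∃ c, c ∈ isoPerp F₀ f u ∧ c ∉ Submodule.span F (Set.range a) := by
  obtain ⟨s, hs, hsn, hso⟩ := S.orth a ha u hu (by have := S.card; omega)
  obtain ⟨c, hc, hcs⟩ := S.iso_dual u hu hk hs hsn
  refine ⟨c, hc, fun hmem => ?_⟩
  rw [swap_eq_zero S.herm (S.perp_span hso hmem), mul_zero] at hcs
  exact zero_ne_one hcs

/-- Rational vectors orthogonal to few are combinations over the subfield of rational isotropic
ones. -/
theorem iso_induction [Finite F] {k : ℕ} (u : Fin k → ι → F) (hu : ∀ i, Rat F₀ (u i)) (hk : k ≤ 3)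
    {P : (ι → F) → Prop} (hP : ∀ c ∈ isoPerp F₀ f u, P c) (hadd : ∀ a b, P a → P b → P (a + b))
    (hsmul : ∀ l ∈ F₀, ∀ a, P a → P (l • a)) {z : ι → F} (hz : Rat F₀ z)
    (hzu : ∀ i, f z (u i) = 0) : P z := by
  have hsub : ∀ a b, P (a + b) → P b → P a := fun a b h1 h2 => by
    have := hadd _ _ h1 (hsmul _ (neg_mem (one_mem F₀)) _ h2)
    rwa [neg_one_smul, add_neg_cancel_right] at this
  have main : ∀ z, Rat F₀ z → (∀ i, f z (u i) = 0) → z ∉ Submodule.span F (Set.range u) → P z := by
    intro z hz hzu hzn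
    obtain ⟨c, hc, hcz⟩ := S.iso_dual u hu hk hz hzn
    rcases S.kind with hkind | ⟨hζ, μ, hμ, hμ0⟩
    · exact hP _ ⟨hz, hkind z hz, hzu⟩
    rw [hζ, one_mul] at hcz
    have hzF : f z z ∈ F₀ := by simpa [hζ] using S.rat z z hz hz
    set l := -f z z * μ / (μ + σ μ)
    have hl : l ∈ F₀ := div_mem (mul_mem (neg_mem hzF) hμ) (add_mem hμ (S.sig μ hμ))
    have htr : l + σ l = -f z z := by
      have e : σ (μ + σ μ) = μ + σ μ := by rw [map_add, S.herm.involutive, add_comm]
      simp only [l, map_div₀, map_mul, map_neg, self_fixed S.herm, e]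
      field_simp
      ring
    have hmem : z + l • c ∈ isoPerp F₀ f u :=
      ⟨rat_add hz (hc.1.smul hl), by rw [expand_add_smul S.herm, hcz, mul_one, htr, hc.2.1]; ring,
        fun i => by rw [S.herm.add_left, S.herm.smul_left, hzu, hc.2.2, mul_zero, add_zero]⟩
    exact hsub z (l • c) (hP _ hmem) (hsmul l hl _ (hP _ hc))
  by_cases hzn : z ∈ Submodule.span F (Set.range u)
  · obtain ⟨y, hy, hyn, hyo⟩ := S.orth u hu u hu (by have := S.card; omega)
    exact hsub z y (main (z + y) (rat_add hz hy)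
      (fun i => by rw [S.herm.add_left, hzu, hyo, add_zero])
      (fun h => hyn (by simpa using Submodule.sub_mem _ h hzn))) (main y hy hyo hyn)
  · exact main z hz hzu hzn

/-- Vectors orthogonal to few rational ones are spanned by rational isotropic ones. -/
theorem mem_span_isoPerp [Finite F] {k : ℕ} (u : Fin k → ι → F) (hu : ∀ i, Rat F₀ (u i)) (hk : k ≤ 3)
    {w : ι → F} (hw : ∀ i, f w (u i) = 0) :
    w ∈ Submodule.span F (isoPerp F₀ f u) :=
  Submodule.span_le.2 (fun _ hz => S.iso_induction u hu hk (P := (· ∈ Submodule.span F (isoPerp F₀ f u)))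
    (fun _ h => Submodule.subset_span h) (fun _ _ => Submodule.add_mem _)
    (fun l _ _ => Submodule.smul_mem _ l) hz.1 hz.2) (S.mem_span_rat u hu hw)

end Setting

end Cfsg.Agent.Lib.SubfieldMax.Unitary
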