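import Mathlib.Algebra.Algebra.Subalgebra.IsSimpleOrder
import Cfsg.Agent.Lib.SubfieldMax.Unitary.Space

/-!
Spreading an irrational parameter over all rational planes.
-/

set_option autoImplicit false

namespace Cfsg.Agent.Lib.SubfieldMax.Unitary

open Matrix Cfsg.Agent.Lib.Subspaces.Transvection Cfsg.Agent.Lib.Subspaces.FormVec
  Cfsg.Agent.Lib.Subspaces.UnitaryForm Cfsg.Agent.Lib.Subspaces.UnitaryEichler
  Cfsg.Agent.Lib.SubfieldMax.Linear Cfsg.Agent.Lib.SubfieldMax.RatLin

variable {ι : Type} [Fintype ι] [DecidableEq ι] {F : Type*} [Field F]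

/-- A rational plane, with independent vectors. -/
structure Pln (F₀ : Subfield F) (f : (ι → F) → (ι → F) → F) (a b : ι → F) : Prop where
  left : Rat F₀ a
  right : Rat F₀ b
  plane : IsPlane f a b
  indep : a ∉ Submodule.span F {b}
  indep' : b ∉ Submodule.span F {a}

/-- All multiples over the subfield of the parameter `k` occur on the plane. -/
def Par (σ : F ≃+* F) (F₀ : Subfield F) (f : (ι → F) → (ι → F) → F) (ζ : F) (M : Subgroup (GL ι F))
    (k : F) (a b : ι → F) : Prop := ∀ c ∈ F₀, eich σ f (ζ * (k * c)) a b ∈ M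

/-- The vector is rational, up to a multiple of `w`, in the scaled sense. -/
def ModRat (F₀ : Subfield F) (ζ : F) (w x : ι → F) : Prop :=
  ∃ (r : ι → F) (μ : F), Rat F₀ r ∧ x = ζ • r + μ • w

/-- Some element attached to a rational isotropic vector has an irrational parameter. -/
def Good (F₀ : Subfield F) (f : (ι → F) → (ι → F) → F) (ζ : F) (M : Subgroup (GL ι F)) : Prop :=
  ∃ (w x : ι → F) (c : F) (g : GL ι F), Rat F₀ w ∧ f w w = 0 ∧ w ≠ 0 ∧ f x w = 0 ∧ g ∈ M ∧
    IsS f w x c g ∧ ¬ ModRat F₀ ζ w x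

omit [Fintype ι] [DecidableEq ι] in
theorem not_mem_span_swap {u v : ι → F} (hu : u ≠ 0) (h : v ∉ Submodule.span F {u}) :
    u ∉ Submodule.span F {v} := fun hm => by
  obtain ⟨l, hl⟩ := Submodule.mem_span_singleton.1 hm
  have hl0 : l ≠ 0 := fun e => hu (by rw [← hl, e, zero_smul])
  exact h (Submodule.mem_span_singleton.2 ⟨l⁻¹, by rw [← hl, inv_smul_smul₀ hl0]⟩)

omit [Fintype ι] [DecidableEq ι] in
theorem ne_zero_of_not_mem {S : Submodule F (ι → F)} {v : ι → F} (h : v ∉ S) : v ≠ 0 :=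
  fun e => h (e ▸ S.zero_mem)

omit [Fintype ι] [DecidableEq ι] in
theorem exchange {a b z : ι → F} (hb : b ∉ Submodule.span F {a})
    (hz : z ∉ Submodule.span F {a, b}) : b ∉ Submodule.span F {a, z} := fun hm => by
  obtain ⟨s, t, hst⟩ := Submodule.mem_span_pair.1 hm
  by_cases ht : t = 0
  · exact hb (Submodule.mem_span_singleton.2 ⟨s, by rw [← hst, ht, zero_smul, add_zero]⟩)
  · exact hz (Submodule.mem_span_pair.2 ⟨-(t⁻¹ * s), t⁻¹, by
      rw [← hst, smul_add, smul_smul, inv_smul_smul₀ ht]; module⟩)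

omit [Fintype ι] [DecidableEq ι] in
theorem Pln.symm {σ : F ≃+* F} {F₀ : Subfield F} {f : (ι → F) → (ι → F) → F}
    (hf : Cfsg.Geo.IsUnitaryForm σ f) {a b : ι → F} (h : Pln F₀ f a b) : Pln F₀ f b a :=
  ⟨h.right, h.left, ⟨h.plane.right, h.plane.left, by rw [hf.herm, h.plane.orth, map_zero]⟩,
    h.indep', h.indep⟩

namespace Setting

variable {σ : F ≃+* F} {F₀ : Subfield F} {f : (ι → F) → (ι → F) → F} {ζ : F}
  {M : Subgroup (GL ι F)} (S : Setting σ F₀ f ζ M)
include S

/-- The dual isotropic vector, on the other side. -/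
theorem iso_dual' [Finite F] {k : ℕ} (u : Fin k → ι → F) (hu : ∀ i, Rat F₀ (u i)) (hk : k ≤ 3)
    {s : ι → F} (hs : Rat F₀ s) (hns : s ∉ Submodule.span F (Set.range u)) :
    ∃ c, c ∈ isoPerp F₀ f u ∧ ζ * f s c = 1 := by
  obtain ⟨c, ⟨hc, hcc, hco⟩, hcs⟩ := S.iso_dual u hu hk hs hns
  refine ⟨(ζ / σ ζ) • c, ⟨hc.smul S.sigz', ?_, fun i => ?_⟩, ?_⟩
  · rw [S.herm.smul_left, smul_right S.herm, hcc, mul_zero, mul_zero]
  · rw [S.herm.smul_left, hco, mul_zero]
  · have h0 := S.zeta
    have h1 := S.sigma_zeta_ne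
    rw [smul_right S.herm, map_div₀, S.herm.involutive, S.herm.herm s c,
      show f c s = ζ⁻¹ from eq_inv_of_mul_eq_one_right hcs, map_inv₀]
    field_simp

/-- A vector orthogonal to `w` whose products with rational isotropic vectors orthogonal to `w` are
in the subfield is rational up to a multiple of `w`. -/
theorem modRat_of [Finite F] {w x : ι → F} (hw : Rat F₀ w) (hw0 : w ≠ 0)
    (h : ∀ p ∈ isoPerp F₀ f ![w], f x p ∈ F₀) : ModRat F₀ ζ w x := by
  have hall : ∀ y, Rat F₀ y → f y w = 0 → f y x ∈ F₀ := fun y hy hyw =>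
    S.iso_induction ![w] (fun i => by fin_cases i; exact hw) (by norm_num)
      (P := fun y => f y x ∈ F₀) (fun c hc => by rw [S.herm.herm]; exact S.sig _ (h c hc))
      (fun a b ha hb => by rw [S.herm.add_left]; exact add_mem ha hb)
      (fun l hl a ha => by rw [S.herm.smul_left]; exact mul_mem hl ha) hy
      (fun i => by fin_cases i; exact hyw)
  obtain ⟨v1, hv1, -, hwv1⟩ := S.sep (k := 0) ![] (fun i => i.elim0) hw (by simpa using hw0)
  set c : ι → F := fun j => σ (ζ * f w (Pi.single j 1))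
  have hc : ∀ j, c j ∈ F₀ := fun j => S.sig _ (S.rat _ _ hw (Rat.single j (one_mem _)))
  set χ : ι → F := fun j => ζ / σ ζ * f (Pi.single j 1 - c j • v1) x
  have hχ : Rat F₀ χ := fun j => mul_mem S.sigz' (hall _
    ((Rat.single j (one_mem _)).sub (hv1.smul (hc j))) (by
      rw [form_sub_left S.hl, S.herm.smul_left, S.herm.herm _ w, S.herm.herm v1 w,
        show f w v1 = ζ⁻¹ from eq_inv_of_mul_eq_one_right hwv1]
      simp only [c, map_mul, map_inv₀]
      have h1 := S.sigma_zeta_ne
      field_simp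
      ring))
  obtain ⟨r, hr, hrχ⟩ := exists_rat_formVec S.phiLinear S.phi_add S.phi_nondeg S.rat hχ
  refine ⟨r, ζ * f x v1, hr, ?_⟩
  by_contra hne
  apply formVec_ne_zero S.hl S.herm.nondegenerate (sub_ne_zero.2 hne)
  funext j
  show f (Pi.single j 1) (x - (ζ • r + (ζ * f x v1) • w)) = 0
  have hj : ζ * f (Pi.single j 1) r = ζ / σ ζ * f (Pi.single j 1 - c j • v1) x := congrFun hrχ j
  rw [form_sub_left S.hl, S.herm.smul_left] at hj
  rw [sub_right S.herm, add_right S.herm, smul_right S.herm, smul_right S.herm, map_mul,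
    ← S.herm.herm v1 x]
  simp only [c, map_mul, ← S.herm.herm (Pi.single j 1) w] at hj
  have h1 := S.sigma_zeta_ne
  have h0 := S.zeta
  field_simp at hj
  linear_combination -hj

/-- A good element gives an irrational parameter on some rational plane. -/
theorem exists_irr [Finite F] (hG : Good F₀ f ζ M) :
    ∃ (a b : ι → F) (k : F), Pln F₀ f a b ∧ k ∉ F₀ ∧ eich σ f (ζ * k) a b ∈ M := by
  have hf := S.herm
  obtain ⟨w, x, c, g, hw, hww, hw0, hxw, hg, hgS, hx⟩ := hG
  obtain ⟨p, ⟨hp, hpp, hpw'⟩, hα⟩ : ∃ p ∈ isoPerp F₀ f ![w], f x p ∉ F₀ := by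
    by_contra hall
    push Not at hall
    exact hx (S.modRat_of hw hw0 hall)
  have hpw : f p w = 0 := hpw' 0
  obtain ⟨q', ⟨hq', hq'q', hq'o⟩, hq'n⟩ := S.iso_avoid ![w, p]
    (fun i => by fin_cases i; exacts [hw, hp]) ![w, p] (fun i => by fin_cases i; exacts [hw, hp])
    (by norm_num) (by norm_num)
  have hq'w : f q' w = 0 := hq'o 0
  have hq'p : f q' p = 0 := hq'o 1
  obtain ⟨q, ⟨hq, hqq, hqo⟩, hqn⟩ := S.iso_avoid ![w, p, q']
    (fun i => by fin_cases i; exacts [hw, hp, hq']) ![w, p, q']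
    (fun i => by fin_cases i; exacts [hw, hp, hq']) (by norm_num) (by norm_num)
  have hqw : f q w = 0 := hqo 0
  have hqp : f q p = 0 := hqo 1
  have hqq'0 : f q q' = 0 := hqo 2
  obtain ⟨p', ⟨hp', hp'p', hp'o⟩, hp'q⟩ := S.iso_dual ![w, p, q']
    (fun i => by fin_cases i; exacts [hw, hp, hq']) le_rfl hq hqn
  have hp'w : f p' w = 0 := hp'o 0
  have hp'p : f p' p = 0 := hp'o 1
  have hp'q' : f p' q' = 0 := hp'o 2
  have hpl : IsPlane f p q := ⟨hpp, hqq, swap_eq_zero hf hqp⟩
  have hpl' : IsPlane f p' q' := ⟨hp'p', hq'q', hp'q'⟩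
  set h := eich σ f (ζ * 1) p q
  set h' := eich σ f (ζ * 1) p' q'
  have hh : h ∈ M := S.hE p q hp hq hpl 1 (one_mem _)
  have hh' : h' ∈ M := S.hE p' q' hp' hq' hpl' 1 (one_mem _)
  have hhw : (h : Matrix ι ι F) *ᵥ w = w :=
    eich_fix hf hpl _ (swap_eq_zero hf hpw) (swap_eq_zero hf hqw)
  have hh'w : (h' : Matrix ι ι F) *ᵥ w = w :=
    eich_fix hf hpl' _ (swap_eq_zero hf hp'w) (swap_eq_zero hf hq'w)
  have h1 := IsS.diff hf hgS (eich_isometry hf hpl _) hhw hww hxw
  set g1 := g⁻¹ * (h * g * h⁻¹)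
  have hg1 : g1 ∈ M := M.mul_mem (M.inv_mem hg) (M.mul_mem (M.mul_mem hh hg) (M.inv_mem hh))
  set x1 := (h : Matrix ι ι F) *ᵥ x - x
  have hx1 : x1 = (ζ * f x p) • q - (σ ζ * f x q) • p := by
    simp only [x1, h, eich_mulVec hf hpl, mul_one]
    abel
  have hx1w : f x1 w = 0 := by
    rw [hx1, form_sub_left S.hl, hf.smul_left, hf.smul_left, hqw, hpw]; ring
  have h2 := IsS.diff hf h1 (eich_isometry hf hpl' _) hh'w hww hx1w
  set m := ζ * (ζ * f x p) * σ ζ⁻¹
  have hx2 : (h' : Matrix ι ι F) *ᵥ x1 - x1 = m • q' := by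
    have e1 : f x1 q' = 0 := by
      rw [hx1, form_sub_left S.hl, hf.smul_left, hf.smul_left, hqq'0, swap_eq_zero hf hq'p]; ring
    have e2 : f x1 p' = ζ * f x p * σ ζ⁻¹ := by
      rw [hx1, form_sub_left S.hl, hf.smul_left, hf.smul_left, swap_eq_zero hf hp'p, hf.herm q p',
        show f p' q = ζ⁻¹ from eq_inv_of_mul_eq_one_right hp'q]
      ring
    simp only [h', eich_mulVec hf hpl', mul_one, e1, e2, mul_zero, zero_smul, sub_zero, m]
    module
  have hc2 : f ((h' : Matrix ι ι F) *ᵥ x1 - x1) x1 = 0 := by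
    rw [hx2, hf.smul_left, hx1, sub_right hf, smul_right hf, smul_right hf, hq'p,
      swap_eq_zero hf hqq'0]
    ring
  rw [hc2, hx2] at h2
  have hplw : IsPlane f q' w := ⟨hq'q', hww, hq'w⟩
  have hmem := M.mul_mem (M.inv_mem hg1) (M.mul_mem (M.mul_mem hh' hg1) (M.inv_mem hh'))
  rw [eq_eich_of_isS hf hplw h2] at hmem
  refine ⟨q', w, -σ m / ζ, ⟨hq', hw, hplw, ?_, ?_⟩, fun hk => hα ?_, ?_⟩
  · exact fun hm => hq'n (Submodule.span_mono (by simp [Matrix.range_cons]) hm)
  · exact not_mem_span_swap hw0 fun hm => hq'n (Submodule.span_mono (by simp [Matrix.range_cons]) hm)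
  · refine S.sig_inv ?_
    have h0 := S.zeta
    have h1 := S.sigma_zeta_ne
    have := mul_mem (neg_mem hk) (mul_mem S.sigz' S.sigz')
    convert this using 1
    simp only [m, map_mul, map_inv₀, hf.involutive]
    field_simp
  · rwa [mul_div_cancel₀ _ S.zeta]

/-- Moving the second vector of a plane. -/
theorem move_right [Finite F] {a b d : ι → F} {t : F} (hab : Pln F₀ f a b) (hd : Rat F₀ d)
    (hdd : f d d = 0) (had : f a d = 0) (hbd : f b d = 0) (hb : b ∉ Submodule.span F {a, d})
    (ht : eich σ f t a b ∈ M) {c : F} (hc : c ∈ F₀) : eich σ f (t * c) a d ∈ M := by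
  have hf := S.herm
  obtain ⟨e, ⟨he, hee, heo⟩, hbe⟩ := S.iso_dual' ![a, d]
    (fun i => by fin_cases i; exacts [hab.left, hd]) (by norm_num) hab.right
    (by simpa [Matrix.range_cons, Set.pair_comm] using hb)
  have hea : f e a = 0 := heo 0
  have hed : f e d = 0 := heo 1
  have hp : IsPlane f e d := ⟨hee, hdd, hed⟩
  have hh : eich σ f (ζ * c) e d ∈ M := S.hE e d he hd hp c hc
  have h1 : (eich σ f (ζ * c) e d : Matrix ι ι F) *ᵥ a = a :=
    eich_fix hf hp _ (swap_eq_zero hf hea) had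
  have h2 : (eich σ f (ζ * c) e d : Matrix ι ι F) *ᵥ b = b + c • d := by
    rw [eich_mulVec hf hp, hbd, mul_zero, zero_smul, sub_zero, mul_right_comm, hbe, one_mul]
  have h3 := M.mul_mem (M.mul_mem hh ht) (M.inv_mem hh)
  rw [eich_conj hf (S.iso _ hh) t hab.plane, h1, h2] at h3
  have hp' : IsPlane f a (c • d) := ⟨hab.plane.left, by rw [hf.smul_left, smul_right hf, hdd]; simp,
    by rw [smul_right hf, had, mul_zero]⟩
  rw [← eich_mul_right hf hab.plane hp' (by rw [smul_right hf, hbd, mul_zero]),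
    eich_smul_right hf ⟨hab.plane.left, hdd, had⟩] at h3
  simpa using M.mul_mem (M.inv_mem ht) h3

theorem par_swap {k : F} {a b : ι → F} (h : IsPlane f a b) (hk : Par σ F₀ f ζ M k a b) :
    Par σ F₀ f ζ M (σ k) b a := by
  intro c hc
  have := hk (-(σ (σ ζ / ζ)⁻¹ * σ c)) (neg_mem (mul_mem
    (S.sig _ (inv_mem S.sigz)) (S.sig c hc)))
  rw [eich_swap S.herm h] at this
  convert this using 2
  have h0 := S.zeta
  have h1 := S.sigma_zeta_ne
  simp only [map_mul, map_neg, map_inv₀, map_div₀, S.herm.involutive]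
  field_simp

theorem par_right [Finite F] {k : F} {a b d : ι → F} (hab : Pln F₀ f a b) (hd : Rat F₀ d)
    (hdd : f d d = 0) (had : f a d = 0) (hbd : f b d = 0) (hb : b ∉ Submodule.span F {a, d})
    (hk : Par σ F₀ f ζ M k a b) : Par σ F₀ f ζ M k a d := by
  intro c hc
  have := S.move_right hab hd hdd had hbd hb (hk 1 (one_mem _)) hc
  rwa [mul_one, mul_assoc] at this

theorem par_right_all [Finite F] {k : F} {a b b' : ι → F} (hab : Pln F₀ f a b)
    (hab' : Pln F₀ f a b') (hk : Par σ F₀ f ζ M k a b) : Par σ F₀ f ζ M k a b' := by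
  have hf := S.herm
  obtain ⟨z, ⟨hz, hzz, hzo⟩, hzn⟩ := S.iso_avoid ![a, b, b']
    (fun i => by fin_cases i; exacts [hab.left, hab.right, hab'.right]) ![a, b, b']
    (fun i => by fin_cases i; exacts [hab.left, hab.right, hab'.right]) le_rfl (by norm_num)
  have hza : f z a = 0 := hzo 0
  have hzb : f z b = 0 := hzo 1
  have hzb' : f z b' = 0 := hzo 2
  have hz1 : z ∉ Submodule.span F {a, b} := fun hm =>
    hzn (Submodule.span_mono (by simp [Matrix.range_cons, Set.insert_subset_iff]) hm)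
  have hz2 : z ∉ Submodule.span F {a, b'} := fun hm =>
    hzn (Submodule.span_mono (by simp [Matrix.range_cons, Set.insert_subset_iff]) hm)
  have hz3 : z ∉ Submodule.span F {a} := fun hm => hz1 (Submodule.span_mono (by simp) hm)
  have hP : Pln F₀ f a z := ⟨hab.left, hz, ⟨hab.plane.left, hzz, swap_eq_zero hf hza⟩,
    not_mem_span_swap (ne_zero_of_not_mem hab.indep) hz3, hz3⟩
  refine S.par_right hP hab'.right hab'.plane.right hab'.plane.orth hzb' hz2 ?_
  exact S.par_right hab hz hzz (swap_eq_zero hf hza) (swap_eq_zero hf hzb)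
    (exchange hab.indep' hz1) hk

theorem par_left_all [Finite F] {k : F} {a a' b : ι → F} (hab : Pln F₀ f a b)
    (hab' : Pln F₀ f a' b) (hk : Par σ F₀ f ζ M k a b) : Par σ F₀ f ζ M k a' b := by
  have := S.par_swap (hab'.symm S.herm).plane
    (S.par_right_all (hab.symm S.herm) (hab'.symm S.herm) (S.par_swap hab.plane hk))
  rwa [S.herm.involutive] at this

theorem par_all [Finite F] {k : F} {a b a' b' : ι → F} (hab : Pln F₀ f a b)
    (hab' : Pln F₀ f a' b') (hk : Par σ F₀ f ζ M k a b) : Par σ F₀ f ζ M k a' b' := by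
  have hf := S.herm
  obtain ⟨z, ⟨hz, hzz, hzo⟩, hzn⟩ := S.iso_avoid ![a, a']
    (fun i => by fin_cases i; exacts [hab.left, hab'.left]) ![a, a']
    (fun i => by fin_cases i; exacts [hab.left, hab'.left]) (by norm_num) (by norm_num)
  have hP : ∀ x, Rat F₀ x → f x x = 0 → x ≠ 0 → f z x = 0 → x ∈ Set.range ![a, a'] →
      Pln F₀ f x z := fun x hx hxx hx0 hzx hmem => by
    have h : z ∉ Submodule.span F {x} := fun hm =>
      hzn (Submodule.span_mono (by simpa using hmem) hm)
    exact ⟨hx, hz, ⟨hxx, hzz, swap_eq_zero hf hzx⟩, not_mem_span_swap hx0 h, h⟩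
  have h1 := hP a hab.left hab.plane.left (ne_zero_of_not_mem hab.indep) (hzo 0) ⟨0, rfl⟩
  have h2 := hP a' hab'.left hab'.plane.left (ne_zero_of_not_mem hab'.indep) (hzo 1) ⟨1, rfl⟩
  exact S.par_right_all h2 hab' (S.par_left_all h1 h2 (S.par_right_all hab h1 hk))

/-- A good group contains all isometries attached to rational planes. -/
theorem all_par [Finite F] {r : ℕ} (hr : r.Prime) (hcard : Nat.card F = Nat.card F₀ ^ r)
    (hG : Good F₀ f ζ M) {a b : ι → F} (hab : Pln F₀ f a b) (t : F) : eich σ f t a b ∈ M := by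
  have hf := S.herm
  obtain ⟨a0, b0, k, hab0, hk, hmem⟩ := S.exists_irr hG
  let D : Subalgebra F₀ F :=
    { carrier := {l | ∀ a b, Pln F₀ f a b → Par σ F₀ f ζ M l a b}
      zero_mem' := fun a b hab c _ => by
        rw [zero_mul, mul_zero, eich_zero hf hab.plane]; exact M.one_mem
      one_mem' := fun a b hab c hc => by
        rw [one_mul]; exact S.hE a b hab.left hab.right hab.plane c hc
      add_mem' := fun {x y} hx hy a b hab c hc => by
        rw [add_mul, mul_add, ← eich_add hf hab.plane]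
        exact M.mul_mem (hx a b hab c hc) (hy a b hab c hc)
      mul_mem' := fun {x y} hx hy a d had c hc => by
        obtain ⟨b, ⟨hb, hbb, hbo⟩, hbn⟩ := S.iso_avoid ![a, d]
          (fun i => by fin_cases i; exacts [had.left, had.right]) ![a, d]
          (fun i => by fin_cases i; exacts [had.left, had.right]) (by norm_num) (by norm_num)
        obtain ⟨e, ⟨he, hee, heo⟩, hbe⟩ := S.iso_dual' ![a, d]
          (fun i => by fin_cases i; exacts [had.left, had.right]) (by norm_num) hb hbn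
        have hba : f b a = 0 := hbo 0
        have hbd : f b d = 0 := hbo 1
        have hea : f e a = 0 := heo 0
        have hed : f e d = 0 := heo 1
        have hb1 : b ∉ Submodule.span F {a} := fun hm =>
          hbn (Submodule.span_mono (by simp [Matrix.range_cons]) hm)
        have hab : Pln F₀ f a b := ⟨had.left, hb, ⟨had.plane.left, hbb, swap_eq_zero hf hba⟩,
          not_mem_span_swap (ne_zero_of_not_mem had.indep) hb1, hb1⟩
        have he1 : e ∉ Submodule.span F {d} := fun hm => by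
          obtain ⟨l, rfl⟩ := Submodule.mem_span_singleton.1 hm
          rw [smul_right hf, hbd, mul_zero, mul_zero] at hbe
          exact zero_ne_one hbe
        have hed' : Pln F₀ f e d := ⟨he, had.right, ⟨hee, had.plane.right, hed⟩, he1,
          not_mem_span_swap (ne_zero_of_not_mem had.indep') he1⟩
        have hh := hy e d hed' 1 (one_mem _)
        have ht := hx a b hab c hc
        have h1 : (eich σ f (ζ * (y * 1)) e d : Matrix ι ι F) *ᵥ a = a :=
          eich_fix hf hed'.plane _ (swap_eq_zero hf hea) had.plane.orth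
        have h2 : (eich σ f (ζ * (y * 1)) e d : Matrix ι ι F) *ᵥ b = b + y • d := by
          rw [eich_mulVec hf hed'.plane, hbd, mul_zero, zero_smul, sub_zero, mul_one, mul_right_comm,
            hbe, one_mul]
        have h3 := M.mul_mem (M.mul_mem hh ht) (M.inv_mem hh)
        rw [eich_conj hf (S.iso _ hh) _ hab.plane, h1, h2] at h3
        have hp' : IsPlane f a (y • d) := ⟨had.plane.left,
          by rw [hf.smul_left, smul_right hf, had.plane.right]; simp,
          by rw [smul_right hf, had.plane.orth, mul_zero]⟩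
        rw [← eich_mul_right hf hab.plane hp' (by rw [smul_right hf, hbd, mul_zero]),
          eich_smul_right hf had.plane] at h3
        have h4 := M.mul_mem (M.inv_mem ht) h3
        rw [inv_mul_cancel_left] at h4
        convert h4 using 2
        ring
      algebraMap_mem' := fun l a b hab c hc =>
        S.hE a b hab.left hab.right hab.plane _ (mul_mem l.2 hc) }
  have hrank : Module.finrank F₀ F = r := by
    have h1 := Module.natCard_eq_pow_finrank (K := F₀) (V := F)
    rw [hcard] at h1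
    exact (Nat.pow_right_injective (Finite.one_lt_card (α := F₀)) h1).symm
  haveI := Subalgebra.isSimpleOrder_of_finrank_prime F₀ F (hrank ▸ hr)
  have hkD : k ∈ D := by
    obtain ⟨z, ⟨hz, hzz, hzo⟩, hzn⟩ := S.iso_avoid ![a0, b0]
      (fun i => by fin_cases i; exacts [hab0.left, hab0.right]) ![a0, b0]
      (fun i => by fin_cases i; exacts [hab0.left, hab0.right]) (by norm_num) (by norm_num)
    have hza : f z a0 = 0 := hzo 0
    have hzb : f z b0 = 0 := hzo 1
    have hz1 : z ∉ Submodule.span F {a0} := fun hm =>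
      hzn (Submodule.span_mono (by simp [Matrix.range_cons]) hm)
    have hP : Pln F₀ f a0 z := ⟨hab0.left, hz, ⟨hab0.plane.left, hzz, swap_eq_zero hf hza⟩,
      not_mem_span_swap (ne_zero_of_not_mem hab0.indep) hz1, hz1⟩
    have hpar : Par σ F₀ f ζ M k a0 z := fun c hc => by
      rw [← mul_assoc]
      exact S.move_right hab0 hz hzz (swap_eq_zero hf hza) (swap_eq_zero hf hzb)
        (exchange hab0.indep' (by simpa [Matrix.range_cons, Set.pair_comm] using hzn)) hmem hc
    exact fun a b hab => S.par_all hP hab hpar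
  have hD : D = ⊤ := by
    refine (eq_bot_or_eq_top D).resolve_left fun hb => hk ?_
    rw [hb, Algebra.mem_bot] at hkD
    obtain ⟨x, rfl⟩ := hkD
    exact x.2
  have := (hD ▸ Algebra.mem_top : t / ζ ∈ D) a b hab 1 (one_mem _)
  rwa [mul_one, mul_div_cancel₀ _ S.zeta] at this

end Setting

end Cfsg.Agent.Lib.SubfieldMax.Unitary
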